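import Mathlib
import Cfsg.Agent.Lib.Chars.Ops
import Cfsg.Agent.Lib.Chars.Completeness

/-!
Averages of products of characters over a subgroup centralized by an element are algebraic integers.
-/

set_option autoImplicit false
set_option linter.unusedSectionVars false

namespace Cfsg.Agent.Lib.GLCuspidal

open Cfsg Matrix
open scoped Kronecker

universe u v

/-- The trace of a complex matrix with `T ^ (N + 1) = T` is an algebraic integer. -/
theorem isIntegral_trace_of_pow {ι : Type*} [Fintype ι] [DecidableEq ι] {T : Matrix ι ι ℂ} {N : ℕ} (hN : 0 < N)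
    (h : T ^ (N + 1) = T) : IsIntegral ℤ T.trace := by
  rcases isEmpty_or_nonempty ι with hι | hι
  · rw [Matrix.trace, Finset.univ_eq_empty, Finset.sum_empty]
    exact isIntegral_zero
  rw [Matrix.trace_eq_sum_roots_charpoly]
  refine IsIntegral.multiset_sum fun r hr => ?_
  have hspec : r ∈ spectrum ℂ T := Matrix.mem_spectrum_of_isRoot_charpoly (Polynomial.isRoot_of_mem_roots hr)
  have h2 : r ^ (N + 1) - r = 0 := by
    have h3 := spectrum.subset_polynomial_aeval T (Polynomial.X ^ (N + 1) - Polynomial.X) ⟨r, hspec, rfl⟩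
    rw [map_sub, map_pow, Polynomial.aeval_X, h, sub_self, spectrum.zero_eq] at h3
    simpa using h3
  refine ⟨Polynomial.X ^ (N + 1) - Polynomial.X, ?_, by simp [← Polynomial.aeval_def, h2]⟩
  exact (Polynomial.monic_X_pow (N + 1)).sub_of_left (by rw [Polynomial.degree_X_pow, Polynomial.degree_X]; exact_mod_cast (by omega))

/-- The average of `η (u h) ξ (h)` over a group centralized by `u`. -/
theorem isIntegral_average_char {H : Type u} [Group H] [Fintype H] {E : Type v} [Group E] [Finite E]
    (π : H →* E) (u : E) (hu : ∀ h, Commute u (π h)) {η : E → ℂ} (hη : IsCharacter E η)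
    {ξ : H → ℂ} (hξ : IsCharacter H ξ) :
    IsIntegral ℤ ((Nat.card H : ℂ)⁻¹ * ∑ h : H, η (u * π h) * ξ h) := by
  classical
  obtain ⟨a, ρ, rfl⟩ := hη
  obtain ⟨b, σ, rfl⟩ := hξ
  let R : E →* Matrix (Fin a) (Fin a) ℂ := (LinearMap.toMatrixAlgEquiv' (R := ℂ)).toMonoidHom.comp ρ
  let S : H →* Matrix (Fin b) (Fin b) ℂ := (LinearMap.toMatrixAlgEquiv' (R := ℂ)).toMonoidHom.comp σ
  have hR : ∀ g, ρ.character g = (R g).trace := fun g => by
    rw [Representation.character, LinearMap.trace_eq_matrix_trace ℂ (Pi.basisFun ℂ (Fin a))]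
    rfl
  have hS : ∀ g, σ.character g = (S g).trace := fun g => by
    rw [Representation.character, LinearMap.trace_eq_matrix_trace ℂ (Pi.basisFun ℂ (Fin b))]
    rfl
  let K : H → Matrix (Fin a × Fin b) (Fin a × Fin b) ℂ := fun h => R (π h) ⊗ₖ S h
  let P : Matrix (Fin a × Fin b) (Fin a × Fin b) ℂ := (Nat.card H : ℂ)⁻¹ • ∑ h, K h
  let U : Matrix (Fin a × Fin b) (Fin a × Fin b) ℂ := R u ⊗ₖ (1 : Matrix (Fin b) (Fin b) ℂ)
  have hKK : ∀ g h, K g * K h = K (g * h) := fun g h => by
    simp only [K, map_mul, Matrix.mul_kronecker_mul]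
  have hPK : ∀ g, K g * P = P := fun g => by
    simp only [P, Matrix.mul_smul, Finset.mul_sum, hKK]
    congr 1
    exact Equiv.sum_comp (Equiv.mulLeft g) K
  have hPP : P * P = P := by
    have : (∑ g, K g) * P = (Nat.card H : ℂ) • P := by
      rw [Finset.sum_mul, Finset.sum_congr rfl fun g _ => hPK g, Finset.sum_const, Finset.card_univ,
        ← Nat.card_eq_fintype_card, Nat.cast_smul_eq_nsmul]
    conv_lhs => arg 1; rw [show P = (Nat.card H : ℂ)⁻¹ • ∑ h, K h from rfl]
    rw [Matrix.smul_mul, this, smul_smul, inv_mul_cancel₀ (Nat.cast_ne_zero.2 Nat.card_pos.ne'), one_smul]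
  have hUP : Commute U P := by
    refine Commute.smul_right (Commute.sum_right _ _ _ fun h _ => ?_) _
    simp only [Commute, SemiconjBy, U, K, ← Matrix.mul_kronecker_mul, one_mul, mul_one]
    rw [((hu h).map R).eq]
  have hUN : U ^ orderOf u = 1 := by
    have key : ∀ m : ℕ, U ^ m = R (u ^ m) ⊗ₖ (1 : Matrix (Fin b) (Fin b) ℂ) := by
      intro m
      induction m with
      | zero => simp
      | succ m ih => rw [pow_succ, ih, pow_succ, map_mul, ← Matrix.mul_kronecker_mul, one_mul]
    rw [key, pow_orderOf_eq_one, map_one, Matrix.one_kronecker_one]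
  have htr : (U * P).trace = (Nat.card H : ℂ)⁻¹ * ∑ h : H, ρ.character (u * π h) * σ.character h := by
    simp only [P, Matrix.mul_smul, Matrix.trace_smul, Finset.mul_sum, Matrix.trace_sum, smul_eq_mul]
    refine Finset.sum_congr rfl fun h _ => ?_
    simp only [U, K, ← Matrix.mul_kronecker_mul, Matrix.trace_kronecker, one_mul, ← map_mul, hR, hS]
  rw [← htr]
  refine isIntegral_trace_of_pow (N := orderOf u) (orderOf_pos u) ?_
  rw [hUP.mul_pow, pow_succ, hUN, one_mul]
  congr 1
  have hid : ∀ m : ℕ, P ^ (m + 1) = P := fun m => by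
    induction m with
    | zero => exact pow_one P
    | succ m ih => rw [pow_succ, ih, hPP]
  exact hid _

/-- The average of `η (u h) ξ (h)` for a generalized character `ξ`. -/
theorem isIntegral_average {H : Type u} [Group H] [Fintype H] {E : Type v} [Group E] [Finite E]
    (π : H →* E) (u : E) (hu : ∀ h, Commute u (π h)) {η : E → ℂ} (hη : IsCharacter E η)
    {ξ : H → ℂ} (hξ : IsGeneralizedCharacter H ξ) :
    IsIntegral ℤ ((Nat.card H : ℂ)⁻¹ * ∑ h : H, η (u * π h) * ξ h) := by
  obtain ⟨a, b, ha, hb, rfl⟩ := hξ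
  simp only [Pi.sub_apply, mul_sub, Finset.sum_sub_distrib]
  exact (isIntegral_average_char π u hu hη ha).sub (isIntegral_average_char π u hu hη hb)

end Cfsg.Agent.Lib.GLCuspidal
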