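import Cfsg.Agent.Lib.GLCuspidal.Weights

/-!
Alternating counts of chains of subspaces.
-/

set_option autoImplicit false
set_option linter.unusedSectionVars false

namespace Cfsg.Agent.Lib.GLCuspidal

open Module

/-- Chains of length `r` from `a` to `x`. -/
abbrev Chain (P : Type*) [Preorder P] (r : ℕ) (a x : P) : Type _ :=
  {c : Fin (r + 1) → P // StrictMono c ∧ c 0 = a ∧ c (Fin.last r) = x}

/-- The alternating number of chains of length at most `N`. -/
noncomputable def altChains (P : Type*) [Preorder P] (N : ℕ) (a x : P) : ℤ :=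
  ∑ r ∈ Finset.range (N + 1), (-1) ^ r * (Nat.card (Chain P r a x) : ℤ)

theorem chain_sigma_ext {P : Type*} [Preorder P] {r : ℕ} {a x : P} (d d' : Σ y : {y : P // y < x}, Chain P r a y)
    (h : d.2.1 = d'.2.1) : d = d' := by
  obtain ⟨⟨y, hy⟩, c, hc, ha, hl⟩ := d
  obtain ⟨⟨y', hy'⟩, c', hc', ha', hl'⟩ := d'
  simp only at h hl hl'
  subst h hl hl'
  rfl

/-- Cutting off the last step of a chain. -/
def chainSuccEquiv (P : Type*) [Preorder P] (r : ℕ) (a x : P) :
    Chain P (r + 1) a x ≃ Σ y : {y : P // y < x}, Chain P r a y where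
  toFun c := ⟨⟨c.1 (Fin.last r).castSucc, by
      conv_rhs => rw [← c.2.2.2]
      exact c.2.1 (Fin.castSucc_lt_last _)⟩,
    ⟨fun i => c.1 i.castSucc, c.2.1.comp Fin.strictMono_castSucc, c.2.2.1, rfl⟩⟩
  invFun d := ⟨Fin.snoc d.2.1 x, by
      refine Fin.strictMono_iff_lt_succ.2 fun i => ?_
      induction i using Fin.lastCases with
      | last =>
        rw [Fin.succ_last, Fin.snoc_last, Fin.snoc_castSucc, d.2.2.2.2]
        exact d.1.2
      | cast j =>
        rw [Fin.succ_castSucc, Fin.snoc_castSucc, Fin.snoc_castSucc]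
        exact d.2.2.1 (Fin.castSucc_lt_succ (i := j)),
    by simpa using (Fin.snoc_castSucc (α := fun _ => P) x d.2.1 0).trans d.2.2.2.1,
    Fin.snoc_last _ _⟩
  left_inv c := Subtype.ext (funext fun i => by
    induction i using Fin.lastCases with
    | last => simp only [Fin.snoc_last]; exact c.2.2.2.symm
    | cast j => simp only [Fin.snoc_castSucc])
  right_inv d := chain_sigma_ext _ _ (funext fun i => by simp only [Fin.snoc_castSucc])

/-- Transport of chains along an order isomorphism. -/
def chainCongr {P P' : Type*} [Preorder P] [Preorder P'] (e : P ≃o P') (r : ℕ) (a x : P) :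
    Chain P r a x ≃ Chain P' r (e a) (e x) where
  toFun c := ⟨e ∘ c.1, e.strictMono.comp c.2.1, congrArg e c.2.2.1, congrArg e c.2.2.2⟩
  invFun c := ⟨e.symm ∘ c.1, e.symm.strictMono.comp c.2.1,
    (congrArg e.symm c.2.2.1).trans (e.symm_apply_apply a), (congrArg e.symm c.2.2.2).trans (e.symm_apply_apply x)⟩
  left_inv c := Subtype.ext (funext fun i => e.symm_apply_apply _)
  right_inv c := Subtype.ext (funext fun i => e.apply_symm_apply _)

theorem altChains_congr {P P' : Type*} [Preorder P] [Preorder P'] (e : P ≃o P') (N : ℕ) (a x : P) :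
    altChains P N a x = altChains P' N (e a) (e x) :=
  Finset.sum_congr rfl fun r _ => by rw [Nat.card_congr (chainCongr e r a x)]

theorem altChains_succ (P : Type*) [Preorder P] [Fintype P] [DecidableRel (α := P) (· < ·)] [DecidableEq P]
    (N : ℕ) (a x : P) :
    altChains P (N + 1) a x = (if a = x then 1 else 0) - ∑ y ∈ Finset.univ.filter (· < x), altChains P N a y := by
  classical
  have : ∀ r (b : P), Finite (Chain P r a b) := fun r b => inferInstanceAs (Finite (Subtype _))
  have h0 : (Nat.card (Chain P 0 a x) : ℤ) = if a = x then 1 else 0 := by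
    split_ifs with h
    · subst h
      have : Unique (Chain P 0 a a) :=
        { default := ⟨fun _ => a, fun i j hij => absurd hij (by omega), rfl, rfl⟩
          uniq := fun c => Subtype.ext (funext fun i => by rw [show i = 0 from Fin.fin_one_eq_zero i, c.2.2.1]) }
      simp
    · have : IsEmpty (Chain P 0 a x) := ⟨fun c => h (c.2.2.1.symm.trans c.2.2.2)⟩
      simp
  rw [altChains, Finset.sum_range_succ' _ (N + 1), pow_zero, one_mul, h0, add_comm, sub_eq_add_neg]
  congr 1
  rw [← Finset.sum_neg_distrib]
  simp only [altChains, ← Finset.sum_neg_distrib]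
  rw [Finset.sum_comm (s := Finset.univ.filter (· < x))]
  refine Finset.sum_congr rfl fun r _ => ?_
  rw [Nat.card_congr (chainSuccEquiv P r a x), Nat.card_sigma, Nat.cast_sum, Finset.mul_sum,
    Finset.sum_subtype (s := Finset.univ.filter (· < x)) (p := fun y => y < x) (by simp)]
  exact Finset.sum_congr rfl fun y _ => by ring

variable {K : Type*} [Field K] [Fintype K] {V : Type*} [AddCommGroup V] [Module K V] [Fintype V]

/-- Philip Hall's count for the lattice of subspaces. -/
theorem altChains_submodule (N : ℕ) (U : Submodule K V) (hU : finrank K U ≤ N) :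
    altChains (Submodule K V) N ⊥ U = mu (Fintype.card K) (finrank K U) := by
  classical
  have := Fintype.ofFinite (Submodule K V)
  induction N generalizing U with
  | zero =>
    have hU0 : U = ⊥ := Submodule.finrank_eq_zero.1 (by omega)
    subst hU0
    have : Unique (Chain (Submodule K V) 0 ⊥ ⊥) :=
      { default := ⟨fun _ => ⊥, fun i j hij => absurd hij (by omega), rfl, rfl⟩
        uniq := fun c => Subtype.ext (funext fun i => by rw [show i = 0 from Fin.fin_one_eq_zero i, c.2.2.1]) }
    simp [altChains, mu]
  | succ N ih =>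
    rw [altChains_succ, Finset.sum_congr rfl fun y hy => ih y (by
      have := Submodule.finrank_lt_finrank_of_lt (Finset.mem_filter.1 hy).2
      omega)]
    by_cases h : U = ⊥
    · subst h
      rw [if_pos rfl, show (Finset.univ.filter fun y : Submodule K V => y < ⊥) = ∅ by ext; simp]
      simp [mu]
    · rw [if_neg (Ne.symm h)]
      have hid := (sum_le_mu_and_wt U).1
      rw [if_neg h, ← Finset.add_sum_erase _ _ (show U ∈ Finset.univ.filter (· ≤ U) by simp),
        show (Finset.univ.filter (· ≤ U)).erase U = Finset.univ.filter (· < U) by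
          ext y; simp [lt_iff_le_and_ne, and_comm]] at hid
      linarith

end Cfsg.Agent.Lib.GLCuspidal
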