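import Cfsg.Agent.Lib.GLCuspidal.Weights

/-!
A vector space with an endomorphism killed by an irreducible polynomial, as a vector space over the
field generated by that endomorphism.
-/

set_option autoImplicit false
set_option linter.unusedSectionVars false

namespace Cfsg.Agent.Lib.GLCuspidal

open Module Polynomial

variable {F : Type*} [Field F] {V : Type*} [AddCommGroup V] [Module F V]
variable {π : F[X]} [Fact (Irreducible π)]

/-- The field generated by a root of `π` acts. -/
noncomputable def rootHom (π : F[X]) (f : Module.End F V) (hf : aeval f π = 0) :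
    AdjoinRoot π →ₐ[F] Module.End F V :=
  Ideal.Quotient.liftₐ (Ideal.span {π}) (aeval f) fun P hP => by
    obtain ⟨c, rfl⟩ := Ideal.mem_span_singleton.1 hP
    rw [map_mul, hf, zero_mul]

theorem rootHom_mk (f : Module.End F V) (hf : aeval f π = 0) (P : F[X]) :
    rootHom π f hf (AdjoinRoot.mk π P) = aeval f P := rfl

/-- The module structure. -/
@[reducible] noncomputable def rootModule (f : Module.End F V) (hf : aeval f π = 0) :
    Module (AdjoinRoot π) V :=
  Module.compHom V (rootHom π f hf).toRingHom

theorem smul_eq (f : Module.End F V) (hf : aeval f π = 0) (x : AdjoinRoot π) (v : V) :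
    (letI := rootModule f hf; x • v) = rootHom π f hf x v := rfl

theorem isScalarTower_root (f : Module.End F V) (hf : aeval f π = 0) :
    letI := rootModule f hf; IsScalarTower F (AdjoinRoot π) V :=
  letI := rootModule f hf
  ⟨fun a x v => by
    show rootHom π f hf (a • x) v = a • rootHom π f hf x v
    rw [map_smul, LinearMap.smul_apply]⟩

theorem root_smul (f : Module.End F V) (hf : aeval f π = 0) (v : V) :
    (letI := rootModule f hf; AdjoinRoot.root π • v) = f v := by
  show rootHom π f hf (AdjoinRoot.mk π X) v = f v
  rw [rootHom_mk, aeval_X]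

theorem finrank_root (hm : π.Monic) : finrank F (AdjoinRoot π) = π.natDegree :=
  (AdjoinRoot.powerBasis' hm).finrank.trans rfl

theorem finite_root (hm : π.Monic) : Module.Finite F (AdjoinRoot π) :=
  (AdjoinRoot.powerBasis' hm).finite

/-- The dimension over `F` is a multiple of the degree. -/
theorem finrank_eq_mul (hm : π.Monic) (f : Module.End F V) (hf : aeval f π = 0) [Module.Finite F V] :
    finrank F V = π.natDegree * (letI := rootModule f hf; finrank (AdjoinRoot π) V) := by
  let _ := rootModule f hf
  have := isScalarTower_root f hf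
  rw [← finrank_root hm, Module.finrank_mul_finrank]

theorem natCard_root [Finite F] (hm : π.Monic) : Nat.card (AdjoinRoot π) = Nat.card F ^ π.natDegree := by
  have := finite_root (π := π) hm
  rw [Module.natCard_eq_pow_finrank (K := F), finrank_root hm]

/-- A commuting `F`-linear map is linear over the field. -/
theorem map_smul_of_comm {V' : Type*} [AddCommGroup V'] [Module F V'] (f : Module.End F V) (hf : aeval f π = 0)
    (f' : Module.End F V') (hf' : aeval f' π = 0) (φ : V →ₗ[F] V') (h : φ ∘ₗ f = f' ∘ₗ φ) (x : AdjoinRoot π) (v : V) :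
    φ (rootHom π f hf x v) = rootHom π f' hf' x (φ v) := by
  obtain ⟨P, rfl⟩ := AdjoinRoot.mk_surjective x
  rw [rootHom_mk, rootHom_mk]
  induction P using Polynomial.induction_on' generalizing v with
  | add a b ha hb => rw [map_add, map_add, LinearMap.add_apply, LinearMap.add_apply, map_add, ha, hb]
  | monomial m a =>
    have hp : ∀ (m : ℕ) (v : V), φ ((f ^ m) v) = (f' ^ m) (φ v) := by
      intro m
      induction m with
      | zero => simp
      | succ m ih =>
        intro v
        rw [pow_succ, pow_succ, Module.End.mul_apply, Module.End.mul_apply, ih]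
        exact congrArg (f' ^ m) (LinearMap.congr_fun h v)
    simp [aeval_monomial, hp]

theorem rootHom_mem {U : Submodule F V} (f : Module.End F V) (hf : aeval f π = 0) (hU : ∀ v ∈ U, f v ∈ U)
    (x : AdjoinRoot π) {v : V} (hv : v ∈ U) : rootHom π f hf x v ∈ U := by
  obtain ⟨P, rfl⟩ := AdjoinRoot.mk_surjective x
  rw [rootHom_mk]
  induction P using Polynomial.induction_on' generalizing v with
  | add a b ha hb => rw [map_add, LinearMap.add_apply]; exact U.add_mem (ha hv) (hb hv)
  | monomial m a =>
    simp only [aeval_monomial, Module.End.mul_apply, Module.algebraMap_end_apply]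
    refine U.smul_mem a ?_
    clear a
    induction m with
    | zero => simpa using hv
    | succ m ih => rw [pow_succ', Module.End.mul_apply]; exact hU _ ih

/-- Invariant subspaces are subspaces over the field. -/
noncomputable def invariantOrderIso (f : Module.End F V) (hf : aeval f π = 0) :
    letI := rootModule f hf
    {U : Submodule F V // ∀ v ∈ U, f v ∈ U} ≃o Submodule (AdjoinRoot π) V :=
  letI := rootModule f hf
  { toFun := fun U =>
      { carrier := U.1
        add_mem' := U.1.add_mem
        zero_mem' := U.1.zero_mem
        smul_mem' := fun x v hv => rootHom_mem f hf U.2 x hv }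
    invFun := fun U =>
      haveI := isScalarTower_root f hf
      ⟨U.restrictScalars F, fun v hv => by rw [← root_smul f hf v]; exact U.smul_mem _ hv⟩
    left_inv := fun U => Subtype.ext (SetLike.ext fun _ => Iff.rfl)
    right_inv := fun U => SetLike.ext fun _ => Iff.rfl
    map_rel_iff' := Iff.rfl }

/-- The number of linearly independent tuples. -/
def frames (q m : ℕ) : ℕ := ∏ i : Fin m, (q ^ m - q ^ (i : ℕ))

theorem frames_pos {q : ℕ} (hq : 1 < q) (m : ℕ) : 0 < frames q m :=
  Finset.prod_pos fun i _ => Nat.sub_pos_of_lt (Nat.pow_lt_pow_right hq i.isLt)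

/-- The number of isomorphisms commuting with the endomorphisms. -/
theorem card_commuting_equiv [Fintype F] (hm : π.Monic) [Module.Finite F V] {V' : Type*} [AddCommGroup V'] [Module F V']
    [Module.Finite F V'] (f : Module.End F V) (hf : aeval f π = 0) (f' : Module.End F V') (hf' : aeval f' π = 0)
    (hdim : finrank F V = finrank F V') :
    Nat.card {x : V ≃ₗ[F] V' // (x : V →ₗ[F] V') ∘ₗ f = f' ∘ₗ x} =
      frames (Fintype.card F ^ π.natDegree) (finrank F V / π.natDegree) := by
  classical
  let _ := rootModule f hf
  let _ := rootModule f' hf'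
  have := isScalarTower_root f hf
  have := isScalarTower_root f' hf'
  have := finite_root (π := π) hm
  have := Module.Finite.of_restrictScalars_finite F (AdjoinRoot π) V
  have := Module.Finite.of_restrictScalars_finite F (AdjoinRoot π) V'
  have : Finite (AdjoinRoot π) := Module.finite_of_finite F
  have : Finite V' := Module.finite_of_finite F
  let e : {x : V ≃ₗ[F] V' // (x : V →ₗ[F] V') ∘ₗ f = f' ∘ₗ x} ≃ (V ≃ₗ[AdjoinRoot π] V') :=
    { toFun := fun x => { x.1 with map_smul' := fun c v => map_smul_of_comm f hf f' hf' _ x.2 c v }
      invFun := fun x => ⟨x.restrictScalars F, LinearMap.ext fun v => by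
        show x (f v) = f' (x v)
        rw [← root_smul f hf v, ← root_smul f' hf' (x v), map_smul]⟩
      left_inv := fun x => rfl
      right_inv := fun x => rfl }
  have hd : 0 < π.natDegree := (Fact.out : Irreducible π).natDegree_pos
  have h1 := finrank_eq_mul hm f hf
  have h2 := finrank_eq_mul hm f' hf'
  set m := finrank (AdjoinRoot π) V with hm'
  have hV' : finrank (AdjoinRoot π) V' = m := by
    rw [hdim, h2] at h1
    exact Nat.eq_of_mul_eq_mul_left hd h1
  rw [Nat.card_congr e, h1, Nat.mul_div_cancel_left _ hd]
  let b := Module.finBasis (AdjoinRoot π) V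
  let e2 : (V ≃ₗ[AdjoinRoot π] V') ≃ {s : Fin m → V' // LinearIndependent (AdjoinRoot π) s} :=
    { toFun := fun x => ⟨fun i => x (b i), b.linearIndependent.map' x.toLinearMap x.ker⟩
      invFun := fun s => b.equiv (Module.Basis.mk s.2 (s.2.span_eq_top_of_card_eq_finrank' (by simp [hV'])).ge) (Equiv.refl _)
      left_inv := fun x => b.ext' fun i => by simp
      right_inv := fun s => Subtype.ext (funext fun i => by simp) }
  have := Fintype.ofFinite (AdjoinRoot π)
  have := Fintype.ofFinite V'
  rw [Nat.card_congr e2, card_linearIndependent (hV'.ge)]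
  refine Finset.prod_congr rfl fun i _ => ?_
  rw [hV', ← Nat.card_eq_fintype_card, natCard_root hm, Nat.card_eq_fintype_card]

/-- Some endomorphism killed by `π`. -/
theorem exists_aeval_eq_zero [Module.Finite F V] (hm : π.Monic) (hd : π.natDegree ∣ finrank F V) :
    ∃ f : Module.End F V, aeval f π = 0 := by
  obtain ⟨c, hc⟩ := hd
  have := finite_root (π := π) hm
  obtain ⟨e⟩ : Nonempty ((Fin c → AdjoinRoot π) ≃ₗ[F] V) := FiniteDimensional.nonempty_linearEquiv_of_finrank_eq (by
    rw [Module.finrank_pi_fintype, Finset.sum_const, Finset.card_univ, Fintype.card_fin, finrank_root hm, hc, smul_eq_mul, mul_comm])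
  let φ : AdjoinRoot π →ₐ[F] Module.End F V :=
    (LinearEquiv.conjAlgEquiv F e).toAlgHom.comp (Algebra.lsmul F F (Fin c → AdjoinRoot π))
  refine ⟨φ (AdjoinRoot.root π), ?_⟩
  rw [aeval_algHom_apply, AdjoinRoot.aeval_eq, AdjoinRoot.mk_self, map_zero]

end Cfsg.Agent.Lib.GLCuspidal
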