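import Cfsg.Agent.Lib.GLCuspidal.EndAlg
import Cfsg.Agent.Lib.GLCuspidal.Modules

/-!
The class functions attached to characters of the multiplicative group of an extension field.
-/

set_option autoImplicit false
set_option linter.unusedSectionVars false

namespace Cfsg.Agent.Lib.GLCuspidal

open Module Polynomial

variable {F : Type*} [Field F] [Fintype F] {K : Type*} [Field K] [Algebra F K] [Fintype K]
variable {V : Type*} [AddCommGroup V] [Module F V] [Module.Finite F V]

open Classical in
/-- The contribution of one point. -/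
noncomputable def term (θ : Kˣ →* ℂˣ) (f : Module.End F V) (a : Kˣ) : ℂ :=
  if IsNilpotent (aeval f (minpoly F (a : K))) then
    (θ a : ℂ) * (phi (Fintype.card F ^ (minpoly F (a : K)).natDegree)
      (finrank F (LinearMap.ker (aeval f (minpoly F (a : K)))) / (minpoly F (a : K)).natDegree) : ℂ)
  else 0

open Classical in
/-- The class function on endomorphisms. -/
noncomputable def chiVal (θ : Kˣ →* ℂˣ) (f : Module.End F V) : ℂ := ∑ a : Kˣ, term θ f a

theorem minpoly_irreducible (a : Kˣ) : Irreducible (minpoly F (a : K)) :=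
  minpoly.irreducible (Algebra.IsIntegral.isIntegral _)

theorem minpoly_monic (a : Kˣ) : (minpoly F (a : K)).Monic :=
  minpoly.monic (Algebra.IsIntegral.isIntegral _)

theorem term_conj {V' : Type*} [AddCommGroup V'] [Module F V'] (θ : Kˣ →* ℂˣ) (x : V ≃ₗ[F] V') (f : Module.End F V)
    (a : Kˣ) : term θ (x.conj f) a = term θ f a := by
  have hP : aeval (x.conj f) (minpoly F (a : K)) = x.conj (aeval f (minpoly F (a : K))) :=
    (aeval_algHom_apply (LinearEquiv.conjAlgEquiv F x).toAlgHom f _)
  have hnil : IsNilpotent (x.conj (aeval f (minpoly F (a : K)))) ↔ IsNilpotent (aeval f (minpoly F (a : K))) :=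
    IsNilpotent.map_iff (f := (LinearEquiv.conjAlgEquiv F x)) (LinearEquiv.conjAlgEquiv F x).injective
  have hker : finrank F (LinearMap.ker (x.conj (aeval f (minpoly F (a : K))))) =
      finrank F (LinearMap.ker (aeval f (minpoly F (a : K)))) := by
    refine (LinearEquiv.finrank_eq (LinearEquiv.ofSubmodules x _ _ ?_)).symm
    ext v
    simp only [Submodule.mem_map, LinearMap.mem_ker, LinearEquiv.conj_apply, LinearMap.comp_apply,
      LinearEquiv.coe_coe, LinearEquiv.map_eq_zero_iff]
    exact ⟨by rintro ⟨w, hw, rfl⟩; simpa using hw, fun h => ⟨x.symm v, h, x.apply_symm_apply v⟩⟩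
  classical
  unfold term
  rw [hP, hker]
  exact if_congr hnil rfl rfl

theorem chiVal_conj {V' : Type*} [AddCommGroup V'] [Module F V'] [Module.Finite F V'] (θ : Kˣ →* ℂˣ) (x : V ≃ₗ[F] V')
    (f : Module.End F V) : chiVal θ (x.conj f) = chiVal θ f :=
  Finset.sum_congr rfl fun a _ => term_conj θ x f a

variable {p : ℕ} [Fact p.Prime] [CharP F p]

open Classical in
/-- The value on `u s` for commuting unipotent `u` and semisimple `s`. -/
theorem term_mul (θ : Kˣ →* ℂˣ) {u s : Module.End F V} (hc : Commute u s) (hu : IsNilpotent (u - 1)) {e : ℕ}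
    (he : ¬ p ∣ e) (hs : s ^ e = 1) (a : Kˣ) :
    term θ (u * s) a = if aeval s (minpoly F (a : K)) = 0 then
      (θ a : ℂ) * (phi (Fintype.card F ^ (minpoly F (a : K)).natDegree)
        (finrank F (LinearMap.ker (u - 1)) / (minpoly F (a : K)).natDegree) : ℂ) else 0 := by
  unfold term
  by_cases h : aeval s (minpoly F (a : K)) = 0
  · rw [if_pos h, if_pos ((isNilpotent_aeval_mul_iff hc hu he hs (minpoly_irreducible a)).2 h),
      ker_aeval_mul hc hu he hs (minpoly_irreducible a) h]
  · rw [if_neg h, if_neg fun hn => h ((isNilpotent_aeval_mul_iff hc hu he hs (minpoly_irreducible a)).1 hn)]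

/-- The value on a unipotent element. -/
theorem chiVal_one_add [Nontrivial V] (θ : Kˣ →* ℂˣ) {N : Module.End F V} (hN : IsNilpotent N) :
    chiVal θ (1 + N) = (phi (Fintype.card F) (finrank F (LinearMap.ker N)) : ℂ) := by
  classical
  obtain ⟨p, hp⟩ := CharP.exists F
  have := Fact.mk (CharP.char_is_prime F p)
  have hu : IsNilpotent ((1 + N) - 1 : Module.End F V) := by rwa [add_sub_cancel_left]
  have key : ∀ a : Kˣ, term θ (1 + N) a = if a = 1 then (phi (Fintype.card F) (finrank F (LinearMap.ker N)) : ℂ) else 0 := by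
    intro a
    have h := term_mul (p := p) (s := 1) θ (Commute.one_right (1 + N)) hu (e := 1) (fun h => (Fact.out : p.Prime).ne_one (Nat.dvd_one.1 h))
      (pow_one 1) a
    rw [mul_one, add_sub_cancel_left] at h
    have hiff : aeval (1 : Module.End F V) (minpoly F (a : K)) = 0 ↔ a = 1 := by
      rw [← map_one (algebraMap F (Module.End F V)), aeval_algebraMap_apply_eq_algebraMap_eval,
        map_eq_zero_iff _ (algebraMap F (Module.End F V)).injective]
      constructor
      · intro h1
        have hdeg := Polynomial.degree_eq_one_of_irreducible_of_root (minpoly_irreducible a) h1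
        obtain ⟨c, hc⟩ := minpoly.mem_range_of_degree_eq_one F (a : K) hdeg
        rw [← hc, minpoly.eq_X_sub_C] at h1
        simp [sub_eq_zero] at h1
        exact Units.ext (by rw [← hc, ← h1, map_one, Units.val_one])
      · rintro rfl
        rw [Units.val_one, minpoly.one]; simp
    rw [h]
    by_cases ha : a = 1
    · subst ha
      rw [if_pos rfl, if_pos (hiff.2 rfl), Units.val_one, minpoly.one, ← map_one C, natDegree_sub_C, natDegree_X, map_one,
        Units.val_one, one_mul, pow_one, Nat.div_one]
    · rw [if_neg ha, if_neg (fun h1 => ha (hiff.1 h1))]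
  rw [chiVal, Finset.sum_congr rfl fun a _ => key a, Finset.sum_ite_eq' Finset.univ (1 : Kˣ), if_pos (Finset.mem_univ _)]

end Cfsg.Agent.Lib.GLCuspidal
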