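import Cfsg.Agent.Lib.GLCuspidal.Weights

/-!
Endomorphisms killed, or made nilpotent, by an irreducible polynomial.
-/

set_option autoImplicit false
set_option linter.unusedSectionVars false

namespace Cfsg.Agent.Lib.GLCuspidal

open Module Polynomial

variable {F : Type*} [Field F] [Fintype F] {V : Type*} [AddCommGroup V] [Module F V]

/-- An irreducible polynomial in the ideal of a power of it and a separable polynomial. -/
theorem exists_bezout_pow {π S : F[X]} (hπ : Irreducible π) (hS : S.Separable) (N : ℕ) :
    ∃ a b : F[X], a * π ^ N + b * S = π := by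
  classical
  have hg : EuclideanDomain.gcd (π ^ N) S ∣ π := by
    obtain ⟨i, -, hi⟩ := (dvd_prime_pow hπ.prime N).1 (EuclideanDomain.gcd_dvd_left (π ^ N) S)
    refine hi.dvd.trans ?_
    by_contra hnd
    have h2 : π ^ 2 ∣ S := by
      refine (pow_dvd_pow π ?_).trans (hi.symm.dvd.trans (EuclideanDomain.gcd_dvd_right _ _))
      by_contra hlt
      exact hnd ((pow_dvd_pow π (show i ≤ 1 by omega)).trans (by rw [pow_one]))
    exact hπ.not_isUnit (hS.squarefree π (by rwa [← pow_two]))
  obtain ⟨c, hc⟩ := hg
  refine ⟨EuclideanDomain.gcdA (π ^ N) S * c, EuclideanDomain.gcdB (π ^ N) S * c, ?_⟩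
  conv_rhs => rw [hc, EuclideanDomain.gcd_eq_gcd_ab]
  ring

variable {p : ℕ} [Fact p.Prime] [CharP F p]

/-- An endomorphism of order prime to `p` is semisimple. -/
theorem aeval_apply_eq_zero_of_pow {f : Module.End F V} {e : ℕ} (he : ¬ p ∣ e) (hf : f ^ e = 1)
    {π : F[X]} (hπ : Irreducible π) {N : ℕ} {v : V} (h : (aeval f π ^ N) v = 0) : aeval f π v = 0 := by
  have hS : (X ^ e - 1 : F[X]).Separable :=
    (X_pow_sub_one_separable_iff).2 (by rwa [Ne, CharP.cast_eq_zero_iff F p])
  obtain ⟨a, b, hab⟩ := exists_bezout_pow hπ hS N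
  rw [← hab, map_add, map_mul, map_mul, map_pow, map_sub, map_pow, aeval_X, map_one, hf, sub_self, mul_zero,
    add_zero, Module.End.mul_apply, h, map_zero]

theorem commute_aeval {a b : Module.End F V} (h : Commute a b) (P : F[X]) : Commute (aeval a P) b :=
  (Algebra.commute_of_mem_adjoin_singleton_of_commute (aeval_mem_adjoin_singleton F a) h.symm).symm

theorem commute_aeval_self (a : Module.End F V) (P : F[X]) : Commute (aeval a P) a :=
  commute_aeval (Commute.refl a) P

theorem isNilpotent_aeval_iff {f : Module.End F V} {e : ℕ} (he : ¬ p ∣ e) (hf : f ^ e = 1)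
    {π : F[X]} (hπ : Irreducible π) : IsNilpotent (aeval f π) ↔ aeval f π = 0 :=
  ⟨fun ⟨_, hN⟩ => LinearMap.ext fun v => aeval_apply_eq_zero_of_pow he hf hπ (by rw [hN]; rfl),
    fun h => ⟨1, by rw [pow_one, h]⟩⟩

theorem exists_aeval_mul {u s : Module.End F V} (hc : Commute u s) (π : F[X]) :
    ∃ k : Module.End F V, Commute k u ∧ Commute k s ∧
      aeval (u * s) π = aeval s π + (u - 1) * s * (aeval s π.derivative + k * ((u - 1) * s)) := by
  let R := Algebra.adjoin F ({u, s} : Set (Module.End F V))
  have hcomm : ∀ a ∈ ({u, s} : Set (Module.End F V)), ∀ b ∈ ({u, s} : Set (Module.End F V)), a * b = b * a := by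
    rintro a (rfl | rfl) b (rfl | rfl)
    exacts [rfl, hc.eq, hc.eq.symm, rfl]
  let iR : CommRing R :=
    { (inferInstance : Ring R) with
      mul_comm := fun a b => Subtype.ext (Algebra.commute_of_mem_adjoin_of_forall_mem_commute b.2 fun y hy =>
        (Algebra.commute_of_mem_adjoin_of_forall_mem_commute a.2 fun z hz => (hcomm y hy z hz)).symm) }
  let u' : R := ⟨u, Algebra.subset_adjoin (Set.mem_insert _ _)⟩
  let s' : R := ⟨s, Algebra.subset_adjoin (Set.mem_insert_of_mem _ rfl)⟩
  obtain ⟨k, hk⟩ := (π.map (algebraMap F R)).binomExpansion s' ((u' - 1) * s')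
  refine ⟨(k : Module.End F V), congrArg Subtype.val (mul_comm k u'), congrArg Subtype.val (mul_comm k s'), ?_⟩
  have e : s' + (u' - 1) * s' = u' * s' := by ring
  rw [e, Polynomial.derivative_map, Polynomial.eval_map, Polynomial.eval_map, Polynomial.eval_map, ← aeval_def,
    ← aeval_def, ← aeval_def] at hk
  have h1 : ∀ (x : R) (P : F[X]), ((aeval x P : R) : Module.End F V) = aeval (x : Module.End F V) P :=
    fun x P => (Polynomial.aeval_algHom_apply R.val x P).symm
  have h2 := congrArg (fun x : R => (x : Module.End F V)) hk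
  simp only [h1, AddMemClass.coe_add, MulMemClass.coe_mul, pow_two] at h2
  rw [show (u' : Module.End F V) = u from rfl] at h2
  refine h2.trans ?_
  show aeval s π + aeval s π.derivative * ((u - 1) * s) + (k : Module.End F V) * ((u - 1) * s * ((u - 1) * s)) = _
  have c2 : Commute (aeval s π.derivative) ((u - 1) * s) :=
    ((commute_aeval hc.symm _).sub_right (Commute.one_right _)).mul_right (commute_aeval_self s _)
  have c3 : Commute (k : Module.End F V) ((u - 1) * s) :=
    ((show Commute (k : Module.End F V) u from congrArg Subtype.val (mul_comm k u')).sub_right (Commute.one_right _)).mul_right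
      (congrArg Subtype.val (mul_comm k s'))
  rw [mul_add, c2.eq, ← mul_assoc (k : Module.End F V)]
  conv_lhs => rw [c3.eq]
  simp only [add_assoc, mul_assoc]

section perturb

variable {u s : Module.End F V} (hc : Commute u s) (hu : IsNilpotent (u - 1)) {e : ℕ} (he : ¬ p ∣ e) (hs : s ^ e = 1)
  {π : F[X]} (hπ : Irreducible π)
include hc hu he hs hπ

theorem isNilpotent_aeval_mul_iff : IsNilpotent (aeval (u * s) π) ↔ aeval s π = 0 := by
  obtain ⟨k, hku, hks, hk⟩ := exists_aeval_mul hc π
  have hX : ∀ P : F[X], Commute (aeval s P) u := fun P => commute_aeval hc.symm P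
  have hXs : ∀ P : F[X], Commute (aeval s P) s := fun P => commute_aeval_self s P
  set Y := (u - 1) * s * (aeval s π.derivative + k * ((u - 1) * s))
  have hn : IsNilpotent Y := by
    refine Commute.isNilpotent_mul_right ?_ (Commute.isNilpotent_mul_right ?_ hu)
    · have c1 : Commute ((u - 1) * s) (aeval s π.derivative) :=
        (((hX _).symm.sub_left (Commute.one_left _)).mul_left (hXs _).symm)
      have c2 : Commute ((u - 1) * s) k := (hku.symm.sub_left (Commute.one_left _)).mul_left hks.symm
      exact c1.add_right (c2.mul_right (Commute.refl _))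
    · exact hc.sub_left (Commute.one_left _)
  have hYc : Commute (aeval s π) Y := by
    have a1 : Commute (aeval s π) ((u - 1) * s) := ((hX π).sub_right (Commute.one_right _)).mul_right (hXs π)
    refine a1.mul_right (((Commute.all π π.derivative).map (aeval s)).add_right (Commute.mul_right ?_ a1))
    exact commute_aeval hks.symm π
  constructor
  · intro h
    refine (isNilpotent_aeval_iff he hs hπ).1 ?_
    have h2 := Commute.isNilpotent_sub (hk ▸ (hYc.add_left (Commute.refl Y))) h hn
    rwa [hk, add_sub_cancel_right] at h2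
  · intro h
    rw [hk, h, zero_add]
    exact hn

theorem ker_aeval_mul (h : aeval s π = 0) :
    LinearMap.ker (aeval (u * s) π) = LinearMap.ker (u - 1) := by
  obtain ⟨k, hku, hks, hk⟩ := exists_aeval_mul hc π
  obtain ⟨a, b, hab⟩ := (PerfectField.separable_of_irreducible hπ : π.Separable)
  have hd : IsUnit (aeval s π.derivative) := by
    refine ⟨⟨aeval s π.derivative, aeval s b, ?_, ?_⟩, rfl⟩
    · have h1 := congrArg (aeval s) hab
      rw [map_add, map_mul, map_mul, h, mul_zero, zero_add, map_one] at h1
      rw [← map_mul, mul_comm, map_mul, h1]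
    · have h1 := congrArg (aeval s) hab
      rwa [map_add, map_mul, map_mul, h, mul_zero, zero_add, map_one] at h1
  have hsu : IsUnit s := IsUnit.of_pow_eq_one hs fun h0 => he (h0 ▸ dvd_zero p)
  have hun : IsUnit (s * (aeval s π.derivative + k * ((u - 1) * s))) := by
    refine hsu.mul (IsNilpotent.isUnit_add_left_of_commute ?_ hd ?_)
    · refine Commute.isNilpotent_mul_left ?_ (Commute.isNilpotent_mul_right (hc.sub_left (Commute.one_left _)) hu)
      exact ((hku.sub_right (Commute.one_right _)).mul_right hks)
    · have hX : Commute (aeval s π.derivative) u := commute_aeval hc.symm _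
      have hXk : Commute (aeval s π.derivative) k := commute_aeval hks.symm _
      have hXs : Commute (aeval s π.derivative) s := commute_aeval_self s _
      exact (hXk.mul_right ((hX.sub_right (Commute.one_right _)).mul_right hXs)).symm
  rw [hk, h, zero_add, mul_assoc]
  obtain ⟨w, hw⟩ := hun
  rw [← hw]
  have hcw : Commute (u - 1) (w : Module.End F V) := by
    rw [hw]
    refine (hc.sub_left (Commute.one_left _)).mul_right (Commute.add_right ?_ ?_)
    · exact ((commute_aeval hc.symm _).sub_right (Commute.one_right _)).symm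
    · exact ((hku.symm.sub_left (Commute.one_left _))).mul_right
        (((Commute.refl u).sub_left (Commute.one_left _)).sub_right (Commute.one_right _) |>.mul_right (hc.sub_left (Commute.one_left _)))
  rw [hcw.eq]
  ext x
  simp only [LinearMap.mem_ker, Module.End.mul_apply]
  refine ⟨fun hx => ?_, fun hx => by rw [hx, map_zero]⟩
  have := congrArg ((w⁻¹ : (Module.End F V)ˣ) : Module.End F V) hx
  rwa [map_zero, ← Module.End.mul_apply, Units.inv_mul, Module.End.one_apply] at this

/-- An element which is isotypic on the fixed space of `u` is isotypic. -/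
theorem aeval_eq_zero_of_ker (h : ∀ v, (u - 1) v = 0 → aeval s π v = 0) : aeval s π = 0 := by
  obtain ⟨N, hN⟩ := hu
  have hX : Commute (aeval s π) (u - 1) := (commute_aeval hc.symm π).sub_right (Commute.one_right _)
  refine LinearMap.ext fun x => ?_
  suffices ∀ i, (aeval s π) (((u - 1) ^ (N - i)) x) = 0 by simpa using this N
  intro i
  induction i with
  | zero => rw [Nat.sub_zero, hN]; simp
  | succ i ih =>
    by_cases hi : N ≤ i
    · rwa [show N - (i + 1) = N - i by omega]
    set y := ((u - 1) ^ (N - (i + 1))) x
    rw [show N - i = (N - (i + 1)) + 1 by omega, pow_succ', Module.End.mul_apply] at ih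
    have h1 : (u - 1) (aeval s π y) = 0 := by
      rw [← Module.End.mul_apply, ← hX.eq, Module.End.mul_apply]; exact ih
    exact aeval_apply_eq_zero_of_pow (N := 2) he hs hπ (by rw [pow_two, Module.End.mul_apply]; exact h _ h1)

end perturb

end Cfsg.Agent.Lib.GLCuspidal
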