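import Mathlib

/-!
Compatible characters of the multiplicative groups of two extensions of a finite field.
-/

set_option autoImplicit false
set_option linter.unusedSectionVars false

namespace Cfsg.Agent.Lib.GLCuspidal

open Module Polynomial

variable {F : Type*} [Field F] [Fintype F]

open Classical in
/-- The roots of `π` come from any subfield whose degree is a multiple of that of `π`. -/
theorem sum_roots_subfield {K M : Type*} [Field K] [Algebra F K] [Fintype K] [Field M] [Algebra F M] [Fintype M]
    (i : M →ₐ[F] K) {π : F[X]} (hπ : Irreducible π) (hm : π.Monic) (hd : π.natDegree ∣ finrank F M) (f : K → ℂ) :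
    ∑ a : Kˣ, (if minpoly F (a : K) = π then f a else 0) = ∑ b : Mˣ, if minpoly F (b : M) = π then f (i b) else 0 := by
  have := Fact.mk hπ
  have := (AdjoinRoot.powerBasis' hm).finite
  obtain ⟨j⟩ := FiniteField.nonempty_algHom_of_finrank_dvd (F := F) (K := AdjoinRoot π) (L := M)
    (by rw [(AdjoinRoot.powerBasis' hm).finrank]; exact hd)
  have hb0 : minpoly F (j (AdjoinRoot.root π)) = π := by
    rw [minpoly.algHom_eq j j.injective, AdjoinRoot.minpoly_root hπ.ne_zero, hm.leadingCoeff, inv_one, C_1, mul_one]
  have hsplit : (π.map (algebraMap F M)).Splits := hb0 ▸ Normal.splits inferInstance _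
  rw [← Finset.sum_filter, ← Finset.sum_filter]
  symm
  refine Finset.sum_nbij (fun b => Units.map i.toMonoidHom b) ?_ ?_ ?_ ?_
  · intro b hb
    simp only [Finset.mem_filter, Finset.mem_univ, true_and] at hb ⊢
    exact (minpoly.algHom_eq i i.injective (b : M)).trans hb
  · exact fun b _ c _ h => Units.map_injective (f := i.toMonoidHom) i.injective h
  · intro a ha
    simp only [Finset.mem_coe, Finset.mem_filter, Finset.mem_univ, true_and] at ha
    have hroot : (a : K) ∈ ((π.map (algebraMap F M)).map i.toRingHom).roots := by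
      rw [Polynomial.map_map, show i.toRingHom.comp (algebraMap F M) = algebraMap F K from i.comp_algebraMap,
        mem_roots (map_ne_zero hπ.ne_zero), IsRoot, eval_map, ← aeval_def, ← ha, minpoly.aeval]
    rw [hsplit.roots_map, Multiset.mem_map] at hroot
    obtain ⟨b, hb, hba⟩ := hroot
    have hb0' : b ≠ 0 := fun e => a.ne_zero (by rw [← hba, e]; exact map_zero i)
    refine ⟨Units.mk0 b hb0', ?_, Units.ext hba⟩
    simp only [Finset.mem_coe, Finset.mem_filter, Finset.mem_univ, true_and]
    rw [← ha, ← hba]
    exact (minpoly.algHom_eq i i.injective b).symm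
  · intro b _
    rfl

open Classical in
/-- A character of the second extension with the same sums over conjugate elements. -/
theorem exists_compatible (p : ℕ) [Fact p.Prime] [CharP F p] {K : Type*} [Field K] [Algebra F K] [Fintype K]
    {k : ℕ} [NeZero k] (θ : Kˣ →* ℂˣ) [Fintype (FiniteField.Extension F p k)] :
    ∃ θ' : (FiniteField.Extension F p k)ˣ →* ℂˣ, ∀ π : F[X], Irreducible π → π.Monic →
      π.natDegree ∣ finrank F K → π.natDegree ∣ k →
        ∑ a : Kˣ, (if minpoly F (a : K) = π then (θ a : ℂ) else 0) =
          ∑ t : (FiniteField.Extension F p k)ˣ, if minpoly F (t : FiniteField.Extension F p k) = π then (θ' t : ℂ) else 0 := by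
  have : NeZero (Nat.gcd (finrank F K) k) := ⟨Nat.gcd_ne_zero_right (NeZero.ne k)⟩
  let M := FiniteField.Extension F p (Nat.gcd (finrank F K) k)
  let _ : Fintype M := Fintype.ofFinite M
  obtain ⟨iK⟩ := FiniteField.nonempty_algHom_of_finrank_dvd (F := F) (K := M) (L := K)
    (by rw [FiniteField.finrank_extension]; exact Nat.gcd_dvd_left _ _)
  obtain ⟨iL⟩ := FiniteField.nonempty_algHom_of_finrank_dvd (F := F) (K := M) (L := FiniteField.Extension F p k)
    (by rw [FiniteField.finrank_extension, FiniteField.finrank_extension]; exact Nat.gcd_dvd_right _ _)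
  let e := MonoidHom.ofInjective (f := Units.map iL.toMonoidHom) (Units.map_injective (f := iL.toMonoidHom) iL.injective)
  obtain ⟨θ', hθ'⟩ := MonoidHom.domRestrict_surjective (M := ℂ) (Units.map iL.toMonoidHom).range
    ((θ.comp (Units.map iK.toMonoidHom)).comp e.symm.toMonoidHom)
  have hcomp : ∀ b : Mˣ, θ' (Units.map iL.toMonoidHom b) = θ (Units.map iK.toMonoidHom b) := fun b => by
    have h := DFunLike.congr_fun hθ' (e b)
    rw [MonoidHom.domRestrictHom_apply, MonoidHom.domRestrict_apply, MonoidHom.comp_apply, MulEquiv.coe_toMonoidHom,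
      MulEquiv.symm_apply_apply] at h
    exact h
  refine ⟨θ', fun π hπ hm hdK hdk => ?_⟩
  have hd : π.natDegree ∣ finrank F M := by rw [FiniteField.finrank_extension]; exact Nat.dvd_gcd hdK hdk
  have hK := sum_roots_subfield iK hπ hm hd (fun a => if ha : a = 0 then 0 else (θ (Units.mk0 a ha) : ℂ))
  have hL := sum_roots_subfield iL hπ hm hd (fun a => if ha : a = 0 then 0 else (θ' (Units.mk0 a ha) : ℂ))
  simp only [Units.ne_zero, dite_false, Units.mk0_val] at hK hL
  rw [hK, hL]
  refine Finset.sum_congr rfl fun b _ => ?_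
  have h1 : iK (b : M) ≠ 0 := (map_ne_zero iK).2 b.ne_zero
  have h2 : iL (b : M) ≠ 0 := (map_ne_zero iL).2 b.ne_zero
  rw [dif_neg h1, dif_neg h2, show Units.mk0 _ h2 = Units.map iL.toMonoidHom b from Units.ext rfl, hcomp,
    show Units.mk0 _ h1 = Units.map iK.toMonoidHom b from Units.ext rfl]

end Cfsg.Agent.Lib.GLCuspidal
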