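import Cfsg.Agent.Lib.GLCuspidal.Defs
import Cfsg.Agent.Lib.GLCuspidal.Fields
import Cfsg.Agent.Lib.GLCuspidal.Chains
import Cfsg.Agent.Lib.GLCuspidal.Averages

/-!
Averages over subgroups of order prime to the characteristic.
-/

set_option autoImplicit false
set_option linter.unusedSectionVars false

namespace Cfsg.Agent.Lib.GLCuspidal

open Module Polynomial Cfsg

universe u

theorem frames_eq (Q : ℕ) (hQ : 1 ≤ Q) : ∀ m, 1 ≤ m → (frames Q m : ℤ) = -(mu Q m * phi Q m * ((Q : ℤ) ^ m - 1)) := by
  have hcast : ∀ m, (frames Q m : ℤ) = ∏ i : Fin m, ((Q : ℤ) ^ m - (Q : ℤ) ^ (i : ℕ)) := fun m => by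
    rw [frames, Nat.cast_prod]
    refine Finset.prod_congr rfl fun i _ => ?_
    rw [Nat.cast_sub (Nat.pow_le_pow_right hQ i.isLt.le)]
    push_cast; ring
  intro m hm
  induction m, hm using Nat.le_induction with
  | base => simp [hcast, mu, phi]
  | succ m hm ih =>
    have h1 : (frames Q (m + 1) : ℤ) = ((Q : ℤ) ^ (m + 1) - 1) * (Q : ℤ) ^ m * (frames Q m : ℤ) := by
      rw [hcast, hcast, Fin.prod_univ_succ, mul_assoc]
      congr 1
      rw [show (Q : ℤ) ^ m = ∏ _i : Fin m, (Q : ℤ) by simp, ← Finset.prod_mul_distrib]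
      refine Finset.prod_congr rfl fun i _ => ?_
      rw [show (∏ _i : Fin m, (Q : ℤ)) = (Q : ℤ) ^ m by simp]
      simp [pow_succ]; ring
    rw [h1, ih, mu, mu, phi_succ _ _ hm, Nat.choose_succ_succ', Nat.choose_one_right, pow_add, pow_add]
    ring

theorem isGeneralizedCharacter_aeval {H : Type u} [Group H] [Finite H] {g : H → ℂ} (hg : IsGeneralizedCharacter H g)
    (P : ℤ[X]) : IsGeneralizedCharacter H fun h => aeval (g h) P := by
  induction P using Polynomial.induction_on' with
  | add a b ha hb => simp only [map_add]; exact Chars.isGeneralizedCharacter_add ha hb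
  | monomial m a =>
    have hpow : ∀ m : ℕ, IsGeneralizedCharacter H fun h => g h ^ m := by
      intro m
      induction m with
      | zero =>
        simp only [pow_zero]
        exact Chars.isGeneralizedCharacter_of_isCharacter (Chars.isCharacter_hom (1 : H →* ℂˣ))
      | succ m ih => simp only [pow_succ]; exact Chars.isGeneralizedCharacter_mul ih hg
    have h := Chars.isGeneralizedCharacter_int_smul a (hpow m)
    convert h using 1
    funext h
    simp [aeval_monomial]

variable {F : Type*} [Field F] [Fintype F]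

theorem eq_of_aeval_eq_zero {W : Type*} [AddCommGroup W] [Module F W] [Nontrivial W] {f : Module.End F W}
    {π π' : F[X]} (hπ : Irreducible π) (hm : π.Monic) (h : aeval f π = 0) (hπ' : Irreducible π') (hm' : π'.Monic)
    (h' : aeval f π' = 0) : π = π' := by
  have key : ∀ {P : F[X]}, Irreducible P → P.Monic → aeval f P = 0 → P = minpoly F f := fun {P} hP hPm hf => by
    have hint : IsIntegral F f := ⟨P, hPm, hf⟩
    have hassoc := ((irreducible_iff.1 hP).2 (minpoly.dvd F f hf).choose_spec).resolve_left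
      (minpoly.not_isUnit F f)
    exact eq_of_monic_of_associated hPm (minpoly.monic hint)
      (by
        obtain ⟨c, hc⟩ := minpoly.dvd F f hf
        obtain ⟨v, hv⟩ := ((irreducible_iff.1 hP).2 hc).resolve_left (minpoly.not_isUnit F f)
        exact Associated.symm ⟨v, by rw [hv]; exact hc.symm⟩)
  rw [key hπ hm h, key hπ' hm' h']

theorem aeval_restrict {V : Type*} [AddCommGroup V] [Module F V] {f : Module.End F V} {W : Submodule F V}
    (hW : ∀ v ∈ W, f v ∈ W) (P : F[X]) (v : W) : ((aeval (f.restrict hW) P) v : V) = aeval f P (v : V) := by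
  induction P using Polynomial.induction_on' generalizing v with
  | add a b ha hb => simp [ha, hb]
  | monomial m a =>
    have hp : ∀ (m : ℕ) (v : W), (((f.restrict hW) ^ m) v : V) = (f ^ m) (v : V) := by
      intro m
      induction m with
      | zero => simp
      | succ m ih =>
        intro v
        rw [pow_succ, pow_succ, Module.End.mul_apply, Module.End.mul_apply, ih]
        rfl
    simp [aeval_monomial, hp]

variable {K : Type*} [Field K] [Algebra F K] [Fintype K] {p : ℕ} [Fact p.Prime] [CharP F p]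
variable {V : Type*} [AddCommGroup V] [Module F V] [Module.Finite F V] [Nontrivial V]

/-- The average over a `p'`-subgroup, times a power of `p`, is integral. -/
theorem exists_pow_mul_average_integral (θ : Kˣ →* ℂˣ) (hn : finrank F V = finrank F K) {E : Type u} [Group E] [Finite E]
    (ρ : E →* Module.End F V) (S : Subgroup E) [Fintype S] (hS : ¬ p ∣ Nat.card S) (u : E)
    (hu : IsNilpotent (ρ u - 1)) (huS : ∀ s ∈ S, Commute u s) {η : E → ℂ} (hη : IsCharacter E η) :
    ∃ N : ℕ, IsIntegral ℤ ((Fintype.card F : ℂ) ^ N *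
      ((Nat.card S : ℂ)⁻¹ * ∑ s : S, η (u * s) * chiVal θ (ρ (u * s)))) := by
  classical
  set q := Fintype.card F
  set W := LinearMap.ker (ρ u - 1) with hWdef
  have hW0 : W ≠ ⊥ := by
    intro h
    obtain ⟨N, hN⟩ := hu
    have hinj : Function.Injective ⇑(ρ u - 1) := LinearMap.ker_eq_bot.1 h
    have : Function.Injective ⇑((ρ u - 1) ^ N) := by rw [Module.End.coe_pow]; exact hinj.iterate N
    obtain ⟨v, hv⟩ := exists_ne (0 : V)
    exact hv (this (by rw [hN]; simp))
  have hWnt : Nontrivial W := Submodule.nontrivial_iff_ne_bot.2 hW0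
  have hcomm : ∀ s : S, Commute (ρ u) (ρ s) := fun s => (huS s s.2).map ρ
  have hinv : ∀ (s : S), ∀ v ∈ W, ρ s v ∈ W := fun s v hv => by
    rw [hWdef, LinearMap.mem_ker] at hv ⊢
    rw [← Module.End.mul_apply, ((hcomm s).sub_left (Commute.one_left _)).eq, Module.End.mul_apply, hv, map_zero]
  let sW : S →* Module.End F W :=
    { toFun := fun s => (ρ s).restrict (hinv s)
      map_one' := LinearMap.ext fun v => Subtype.ext (by simp)
      map_mul' := fun a b => LinearMap.ext fun v => Subtype.ext (by simp) }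
  set k := finrank F W with hkdef
  have hk : 0 < k := Module.finrank_pos
  have : NeZero k := ⟨hk.ne'⟩
  let L := FiniteField.Extension F p k
  let _ : Fintype L := Fintype.ofFinite L
  have hL : finrank F L = k := FiniteField.finrank_extension F p k
  obtain ⟨θ', hθ'⟩ := exists_compatible (F := F) p (K := K) (k := k) θ
  let sE : S →* (W ≃ₗ[F] W) := (LinearMap.GeneralLinearGroup.generalLinearEquiv F W).toMonoidHom.comp sW.toHomUnits
  have hsE : ∀ (s : S) (v : W), sE s v = sW s v := fun s v => rfl
  let tE : Lˣ →* (L ≃ₗ[F] L) := DistribMulAction.toModuleAut F L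
  have htE : ∀ (t : Lˣ) (x : L), tE t x = (t : L) * x := fun t x => rfl
  let _ : MulAction (S × Lˣ) (L ≃ₗ[F] W) :=
    { smul := fun h x => (tE h.2⁻¹).trans (x.trans (sE h.1))
      one_smul := fun x => LinearEquiv.ext fun v => by
        show sE 1 (x (tE (1 : Lˣ)⁻¹ v)) = x v
        simp [map_one]
      mul_smul := fun a b x => LinearEquiv.ext fun v => by
        show sE (a.1 * b.1) (x (tE (a.2 * b.2)⁻¹ v)) = sE a.1 (sE b.1 (x (tE b.2⁻¹ (tE a.2⁻¹ v))))
        rw [map_mul, _root_.mul_inv_rev, map_mul]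
        rfl }
  have hfinY : Finite (L ≃ₗ[F] W) := by
    have : Finite W := Module.finite_of_finite F
    exact Finite.of_injective _ DFunLike.coe_injective
  let fixc : S × Lˣ → ℂ := fun h => (Nat.card (MulAction.fixedBy (L ≃ₗ[F] W) h) : ℂ)
  have hfix : ∀ (s : S) (t : Lˣ), Nat.card (MulAction.fixedBy (L ≃ₗ[F] W) (s, t)) =
      if aeval (sW s) (minpoly F (t : L)) = 0 then
        frames (q ^ (minpoly F (t : L)).natDegree) (k / (minpoly F (t : L)).natDegree) else 0 := by
    intro s t
    have e : (MulAction.fixedBy (L ≃ₗ[F] W) (s, t)) ≃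
        {x : L ≃ₗ[F] W // (x : L →ₗ[F] W) ∘ₗ Algebra.lmul F L (t : L) = sW s ∘ₗ x} := by
      refine Equiv.subtypeEquivRight fun x => ⟨fun h => LinearMap.ext fun v => ?_, fun h => LinearEquiv.ext fun v => ?_⟩
      · have := LinearEquiv.congr_fun (show (tE t⁻¹).trans (x.trans (sE s)) = x from h) ((t : L) * v)
        rw [LinearEquiv.trans_apply, LinearEquiv.trans_apply, htE, ← mul_assoc, Units.inv_mul, one_mul, hsE] at this
        exact this.symm
      · show sE s (x (tE t⁻¹ v)) = x v
        rw [hsE, htE]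
        have := LinearMap.congr_fun h (((t⁻¹ : Lˣ) : L) * v)
        simp only [LinearMap.comp_apply, LinearEquiv.coe_coe, Algebra.coe_lmul_eq_mul, LinearMap.mul_apply'] at this
        rw [← mul_assoc, Units.mul_inv, one_mul] at this
        exact this.symm
    have hLt : aeval (Algebra.lmul F L (t : L)) (minpoly F (t : L)) = 0 := by
      rw [aeval_algHom_apply, minpoly.aeval, map_zero]
    have := Fact.mk (minpoly.irreducible (Algebra.IsIntegral.isIntegral (R := F) (t : L)))
    rw [Nat.card_congr e]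
    split_ifs with h
    · rw [card_commuting_equiv (minpoly.monic (Algebra.IsIntegral.isIntegral _)) _ hLt _ h (by rw [hL]), hL]
    · rw [Nat.card_eq_zero]
      refine Or.inl ⟨fun x => h ?_⟩
      have hx : sW s = x.1.conj (Algebra.lmul F L (t : L)) := LinearMap.ext fun v => by
        simpa [LinearEquiv.conj_apply] using (LinearMap.congr_fun x.2 (x.1.symm v)).symm
      rw [hx]
      exact (aeval_algHom_apply (LinearEquiv.conjAlgEquiv F x.1).toAlgHom _ _).trans (by rw [hLt, map_zero])
  let mapC : ∀ r, S → Chain (Submodule F W) r ⊥ ⊤ → Chain (Submodule F W) r ⊥ ⊤ := fun r s c =>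
    ⟨fun i => (c.1 i).map (sE s : W →ₗ[F] W), fun i j hij =>
      (Submodule.map_strictMono_of_injective (sE s).injective) (c.2.1 hij),
      by simp only [c.2.2.1, Submodule.map_bot], by simp only [c.2.2.2, Submodule.map_top, LinearEquiv.range]⟩
  let _ : ∀ r, MulAction S (Chain (Submodule F W) r ⊥ ⊤) := fun r =>
    { smul := mapC r
      one_smul := fun c => Subtype.ext (funext fun i => by
        show (c.1 i).map (sE 1 : W →ₗ[F] W) = c.1 i
        rw [map_one]; exact Submodule.map_id _)
      mul_smul := fun a b c => Subtype.ext (funext fun i => by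
        show (c.1 i).map (sE (a * b) : W →ₗ[F] W) = ((c.1 i).map (sE b : W →ₗ[F] W)).map (sE a : W →ₗ[F] W)
        rw [map_mul, ← Submodule.map_comp]; rfl) }
  have hfinC : ∀ r, Finite (Chain (Submodule F W) r ⊥ ⊤) := fun r => by
    have : Finite W := Module.finite_of_finite F
    exact inferInstanceAs (Finite (Subtype _))
  let g : S → ℂ := fun s => ∑ r ∈ Finset.range (k + 1),
    ((-1 : ℤ) ^ r : ℤ) * (Nat.card (MulAction.fixedBy (Chain (Submodule F W) r ⊥ ⊤) s) : ℂ)
  have hg : IsGeneralizedCharacter S g := by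
    have := Chars.isGeneralizedCharacter_sum (Finset.range (k + 1))
      (f := fun r => fun s : S => ((-1 : ℤ) ^ r : ℤ) * (Nat.card (MulAction.fixedBy (Chain (Submodule F W) r ⊥ ⊤) s) : ℂ))
      fun r _ => Chars.isGeneralizedCharacter_int_smul ((-1 : ℤ) ^ r)
        (Chars.isGeneralizedCharacter_of_isCharacter (Chars.isCharacter_permChar (Chain (Submodule F W) r ⊥ ⊤)))
    convert this using 1
    funext s
    simp [g, Finset.sum_apply]
  have hgval : ∀ (s : S) (π : F[X]), Irreducible π → π.Monic → ∀ hπ : aeval (sW s) π = 0,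
      π.natDegree ∣ k ∧ g s = (mu (q ^ π.natDegree) (k / π.natDegree) : ℂ) := by
    intro s π hirr hm hπ
    have := Fact.mk hirr
    have := (AdjoinRoot.powerBasis' hm).finite
    have : Finite (AdjoinRoot π) := Module.finite_of_finite F
    let _ := Fintype.ofFinite (AdjoinRoot π)
    have : Finite W := Module.finite_of_finite F
    let _ := Fintype.ofFinite W
    let _ := rootModule (sW s) hπ
    have := isScalarTower_root (sW s) hπ
    have := Module.Finite.of_restrictScalars_finite F (AdjoinRoot π) W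
    have hmul := finrank_eq_mul hm (sW s) hπ
    refine ⟨⟨_, hmul⟩, ?_⟩
    let P := {U : Submodule F W // ∀ v ∈ U, sW s v ∈ U}
    let e := invariantOrderIso (sW s) hπ
    let bot' : P := ⟨⊥, fun v hv => by simp_all⟩
    let top' : P := ⟨⊤, fun v _ => trivial⟩
    have hb : e bot' = ⊥ := SetLike.ext fun v => by
      show v ∈ (⊥ : Submodule F W) ↔ _
      simp
    have ht : e top' = ⊤ := SetLike.ext fun v => Iff.rfl
    have hc : ∀ r, Nat.card (MulAction.fixedBy (Chain (Submodule F W) r ⊥ ⊤) s) = Nat.card (Chain P r bot' top') := by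
      intro r
      have hfixed : ∀ c : Chain (Submodule F W) r ⊥ ⊤, mapC r s c = c → ∀ i, ∀ v ∈ c.1 i, sW s v ∈ c.1 i := by
        intro c hc i v hv
        have := congrFun (congrArg Subtype.val hc) i
        rw [← hsE, ← this]
        exact Submodule.mem_map_of_mem hv
      refine Nat.card_congr
        { toFun := fun c => ⟨fun i => ⟨c.1.1 i, hfixed c.1 c.2 i⟩, fun i j hij => c.1.2.1 hij,
            Subtype.ext c.1.2.2.1, Subtype.ext c.1.2.2.2⟩
          invFun := fun c => ⟨⟨fun i => (c.1 i).1, fun i j hij => c.2.1 hij, congrArg Subtype.val c.2.2.1,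
            congrArg Subtype.val c.2.2.2⟩, Subtype.ext (funext fun i => ?_)⟩
          left_inv := fun c => rfl
          right_inv := fun c => rfl }
      show ((c.1 i).1).map (sE s : W →ₗ[F] W) = (c.1 i).1
      refine Submodule.eq_of_le_of_finrank_eq (fun v hv => ?_) ?_
      · obtain ⟨w, hw, rfl⟩ := Submodule.mem_map.1 hv
        exact (c.1 i).2 w hw
      · exact LinearEquiv.finrank_map_eq _ _
    have h2 : g s = (altChains P k bot' top' : ℂ) := by
      simp only [g, altChains, hc]
      push_cast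
      rfl
    rw [h2, altChains_congr e k bot' top', hb, ht, altChains_submodule k ⊤ (by
      rw [finrank_top, hkdef, hmul]; exact Nat.le_mul_of_pos_left _ hirr.natDegree_pos), finrank_top,
      show k / π.natDegree = finrank (AdjoinRoot π) W by rw [hkdef, hmul, Nat.mul_div_cancel_left _ hirr.natDegree_pos],
      ← Nat.card_eq_fintype_card, natCard_root hm, Nat.card_eq_fintype_card]
  let G : S → ℂ := fun s => (Nat.card Lˣ : ℂ)⁻¹ * ∑ t : Lˣ, fixc (s, t) * (θ' t : ℂ)
  have hS1 : ∀ s : S, (ρ s) ^ Nat.card S = 1 := fun s => by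
    rw [← map_pow, ← Subgroup.coe_pow, pow_card_eq_one', OneMemClass.coe_one, map_one]
  have hFW : ∀ s : S, chiVal θ (ρ (u * s)) = ∑ a : Kˣ, if aeval (sW s) (minpoly F (a : K)) = 0 then
      (θ a : ℂ) * (phi (q ^ (minpoly F (a : K)).natDegree) (k / (minpoly F (a : K)).natDegree) : ℂ) else 0 := by
    intro s
    rw [map_mul, chiVal]
    refine Finset.sum_congr rfl fun a _ => ?_
    rw [term_mul (p := p) θ (hcomm s) hu hS (hS1 s) a]
    refine if_congr ⟨fun h => LinearMap.ext fun v => Subtype.ext ?_, fun h => ?_⟩ rfl rfl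
    · have hr := aeval_restrict (hinv s) (minpoly F (a : K)) v
      rw [h] at hr
      exact hr.trans (by simp)
    · refine aeval_eq_zero_of_ker (hcomm s) hu hS (hS1 s) (minpoly_irreducible a) fun v hv => ?_
      have hr := aeval_restrict (hinv s) (minpoly F (a : K)) ⟨v, hv⟩
      rw [show (ρ s).restrict (hinv s) = sW s from rfl, h] at hr
      exact hr.symm.trans (by simp)
  have hkey : ∀ s : S, (∃ e ≤ k * k, g s = (q : ℂ) ^ e ∨ g s = -(q : ℂ) ^ e) ∧ chiVal θ (ρ (u * s)) * g s = -G s ∨
      chiVal θ (ρ (u * s)) = 0 ∧ G s = 0 := by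
    intro s
    by_cases hex : ∃ π : F[X], Irreducible π ∧ π.Monic ∧ aeval (sW s) π = 0 ∧ π.natDegree ∣ finrank F K
    · left
      obtain ⟨π, hirr, hm, hπ, hdK⟩ := hex
      obtain ⟨hdk, hgs⟩ := hgval s π hirr hm hπ
      set d := π.natDegree
      set m := k / d
      have hdm : d * m = k := Nat.mul_div_cancel' hdk
      have hm1 : 1 ≤ m := Nat.pos_of_mul_pos_left (hdm.symm ▸ hk)
      refine ⟨⟨d * m.choose 2, ?_, ?_⟩, ?_⟩
      · have h1 : m.choose 2 ≤ m * m := (Nat.choose_le_pow m 2).trans (by rw [pow_two])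
        calc d * m.choose 2 ≤ d * (m * m) := Nat.mul_le_mul_left _ h1
          _ ≤ (d * d) * (m * m) := Nat.mul_le_mul_right _ (Nat.le_mul_of_pos_left _ hirr.natDegree_pos)
          _ = k * k := by rw [← hdm]; ring
      · rw [hgs, mu]
        rcases neg_one_pow_eq_or ℤ m with e | e <;> rw [e] <;> [left; right] <;> push_cast <;> rw [pow_mul] <;> ring
      · have hiff : ∀ P : F[X], Irreducible P → P.Monic → (aeval (sW s) P = 0 ↔ P = π) := fun P hP hPm =>
          ⟨fun h => eq_of_aeval_eq_zero hP hPm h hirr hm hπ, fun h => h ▸ hπ⟩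
        have h1 : chiVal θ (ρ (u * s)) = (∑ a : Kˣ, if minpoly F (a : K) = π then (θ a : ℂ) else 0) * (phi (q ^ d) m : ℂ) := by
          rw [hFW, Finset.sum_mul]
          refine Finset.sum_congr rfl fun a _ => ?_
          rw [if_congr (hiff _ (minpoly_irreducible a) (minpoly_monic a)) rfl rfl]
          split_ifs with h
          · rw [h]
          · rw [zero_mul]
        have h2 : G s = (Nat.card Lˣ : ℂ)⁻¹ * ((frames (q ^ d) m : ℂ) *
            ∑ t : Lˣ, if minpoly F (t : L) = π then (θ' t : ℂ) else 0) := by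
          simp only [G, fixc]
          congr 1
          rw [Finset.mul_sum]
          refine Finset.sum_congr rfl fun t _ => ?_
          rw [hfix, if_congr (hiff _ (minpoly.irreducible (Algebra.IsIntegral.isIntegral _))
            (minpoly.monic (Algebra.IsIntegral.isIntegral _))) rfl rfl]
          split_ifs with h
          · rw [h]
          · simp
        have hcard : (Nat.card Lˣ : ℂ) = (((q ^ d : ℕ) : ℤ) ^ m - 1 : ℤ) := by
          rw [Nat.card_units, FiniteField.natCard_extension, Nat.card_eq_fintype_card,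
            Nat.cast_sub (Nat.one_le_pow _ _ Fintype.card_pos)]
          push_cast
          rw [← pow_mul, hdm]
        have hfr := congrArg (Int.cast : ℤ → ℂ) (frames_eq (q ^ d) (Nat.one_le_pow _ _ Fintype.card_pos) m hm1)
        have hne : ((((q ^ d : ℕ) : ℤ) ^ m - 1 : ℤ) : ℂ) ≠ 0 := by
          rw [← hcard]; exact Nat.cast_ne_zero.2 Nat.card_pos.ne'
        rw [h1, h2, hgs, ← hθ' π hirr hm hdK hdk, hcard]
        push_cast at hfr hne ⊢
        rw [hfr]
        field_simp
    · right
      constructor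
      · rw [hFW]
        refine Finset.sum_eq_zero fun a _ => if_neg fun h => hex ⟨_, minpoly_irreducible a, minpoly_monic a, h, ?_⟩
        exact minpoly.degree_dvd (Algebra.IsIntegral.isIntegral _)
      · simp only [G, fixc]
        rw [Finset.sum_eq_zero, mul_zero]
        intro t _
        rw [hfix, if_neg]
        · simp
        intro h
        refine hex ⟨_, minpoly.irreducible (Algebra.IsIntegral.isIntegral _), minpoly.monic (Algebra.IsIntegral.isIntegral _), h, ?_⟩
        have hρ : aeval (ρ s) (minpoly F (t : L)) = 0 := by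
          refine aeval_eq_zero_of_ker (hcomm s) hu hS (hS1 s) (minpoly.irreducible (Algebra.IsIntegral.isIntegral _)) fun v hv => ?_
          have hr := aeval_restrict (hinv s) (minpoly F (t : L)) ⟨v, hv⟩
          rw [show (ρ s).restrict (hinv s) = sW s from rfl, h] at hr
          exact hr.symm.trans (by simp)
        have := Fact.mk (minpoly.irreducible (Algebra.IsIntegral.isIntegral (R := F) (t : L)))
        exact hn ▸ ⟨_, finrank_eq_mul (minpoly.monic (Algebra.IsIntegral.isIntegral _)) (ρ s) hρ⟩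
  -- inverting the values of `g`
  let P0 : ℤ[X] := ∏ e ∈ Finset.range (k * k + 1), (X ^ 2 - C ((q : ℤ) ^ (2 * e)))
  let R : ℤ[X] := P0.divX
  obtain ⟨M, c, hcu, hc0⟩ : ∃ (M : ℕ) (c : ℤ), IsUnit c ∧ P0.coeff 0 = c * (q : ℤ) ^ M := by
    refine ⟨∑ e ∈ Finset.range (k * k + 1), 2 * e, (-1) ^ (k * k + 1), (isUnit_one.neg).pow _, ?_⟩
    rw [coeff_zero_prod, Finset.prod_congr rfl (g := fun e => (-1 : ℤ) * (q : ℤ) ^ (2 * e)) (fun e _ => by rw [coeff_sub, coeff_X_pow, coeff_C_zero, if_neg (by norm_num), zero_sub, neg_one_mul]),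
      Finset.prod_mul_distrib, Finset.prod_const, Finset.card_range, Finset.prod_pow_eq_pow_sum]
  have hR : ∀ s : S, chiVal θ (ρ (u * s)) * (P0.coeff 0 : ℂ) = G s * aeval (g s) R := by
    intro s
    rcases hkey s with ⟨⟨e, he, hge⟩, hFg⟩ | ⟨h1, h2⟩
    · have h0 : aeval (g s) P0 = 0 := by
        rw [map_prod]
        refine Finset.prod_eq_zero (Finset.mem_range.2 (show e < k * k + 1 by omega)) ?_
        rw [map_sub, map_pow, aeval_X, aeval_C, algebraMap_int_eq]
        rcases hge with h | h <;> rw [h] <;> simp <;> ring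
      have h3 := congrArg (aeval (g s)) (X_mul_divX_add P0)
      rw [h0, map_add, map_mul, aeval_X, aeval_C, algebraMap_int_eq, eq_intCast] at h3
      have h4 : (P0.coeff 0 : ℂ) = -(g s * aeval (g s) R) := by linear_combination h3
      rw [h4]
      linear_combination (-(aeval (g s) R)) * hFg
    · rw [h1, h2, zero_mul, zero_mul]
  let ξ : S × Lˣ → ℂ := fun h => fixc h * (θ' h.2 : ℂ) * aeval (g h.1) R
  have hξ : IsGeneralizedCharacter (S × Lˣ) ξ := by
    refine Chars.isGeneralizedCharacter_mul (Chars.isGeneralizedCharacter_mul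
      (Chars.isGeneralizedCharacter_of_isCharacter (Chars.isCharacter_permChar (L ≃ₗ[F] W)))
      (Chars.isGeneralizedCharacter_of_isCharacter (Chars.isCharacter_hom (θ'.comp (MonoidHom.snd S Lˣ))))) ?_
    obtain ⟨a, b, ha, hb, hab⟩ := isGeneralizedCharacter_aeval hg R
    exact ⟨_, _, Chars.isCharacter_comp (MonoidHom.fst S Lˣ) ha, Chars.isCharacter_comp (MonoidHom.fst S Lˣ) hb,
      funext fun h => congrFun hab h.1⟩
  have hint := isIntegral_average (S.subtype.comp (MonoidHom.fst S Lˣ)) u (fun h => huS _ h.1.2) hη hξ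
  refine ⟨M, ?_⟩
  have hfinal : (P0.coeff 0 : ℂ) * ((Nat.card S : ℂ)⁻¹ * ∑ s : S, η (u * s) * chiVal θ (ρ (u * s))) =
      (Nat.card (S × Lˣ) : ℂ)⁻¹ * ∑ h : S × Lˣ, η (u * (S.subtype.comp (MonoidHom.fst S Lˣ)) h) * ξ h := by
    rw [Nat.card_prod, Nat.cast_mul, mul_inv, Fintype.sum_prod_type, Finset.mul_sum, Finset.mul_sum, Finset.mul_sum]
    refine Finset.sum_congr rfl fun s _ => ?_
    calc (P0.coeff 0 : ℂ) * ((Nat.card S : ℂ)⁻¹ * (η (u * s) * chiVal θ (ρ (u * s))))
        = (Nat.card S : ℂ)⁻¹ * (η (u * s) * (chiVal θ (ρ (u * s)) * (P0.coeff 0 : ℂ))) := by ring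
      _ = _ := by
        rw [hR]
        simp only [G, Finset.mul_sum, Finset.sum_mul, ξ]
        refine Finset.sum_congr rfl fun t _ => ?_
        show _ = _ * (η (u * s) * _)
        ring
  rw [← hfinal, hc0] at hint
  obtain ⟨c', hc'⟩ := hcu
  rcases Int.isUnit_iff.1 (hc' ▸ c'.isUnit) with h | h <;> rw [h] at hint <;> push_cast at hint
  · simpa using hint
  · simpa using hint.neg

end Cfsg.Agent.Lib.GLCuspidal
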