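import Cfsg.Agent.Lib.GLCuspidal.IntegralUnipotent
import Cfsg.Agent.Lib.BrauerInd.Brauer
import Cfsg.Agent.Lib.BrauerInd.Nilpotent
import Cfsg.Agent.Lib.Star.Galois

/-!
The class functions are generalized characters.
-/

set_option autoImplicit false
set_option linter.unusedSectionVars false

namespace Cfsg.Agent.Lib.GLCuspidal

open Module Polynomial Cfsg

universe u

/-- In an elementary group elements of coprime orders commute. -/
theorem commute_of_isElementary {E : Type u} [Group E] [Finite E] {ℓ : ℕ} (hℓ : ℓ.Prime) (h : IsElementary ℓ E)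
    {a b : E} (hab : Nat.Coprime (orderOf a) (orderOf b)) : Commute a b := by
  have := Fact.mk hℓ
  obtain ⟨x, hx, -, k, hk⟩ := h
  have hcent : ∀ w : E, ¬ ℓ ∣ orderOf w → w ∈ Subgroup.center E := by
    intro w hw
    have : (Subgroup.zpowers x).Normal := ⟨fun y hy g => by
      rw [Subgroup.mem_center_iff.1 ((Subgroup.zpowers_le.2 hx) hy) g, mul_inv_cancel_right]; exact hy⟩
    have h1 : w ^ ℓ ^ k ∈ Subgroup.center E :=
      (Subgroup.zpowers_le.2 hx) (hk ▸ Subgroup.pow_index_mem _ w)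
    obtain ⟨j, hj⟩ := exists_pow_eq_self_of_coprime (x := w)
      (((hℓ.coprime_iff_not_dvd).2 hw).pow_left k)
    exact hj ▸ pow_mem h1 j
  by_cases hd : ℓ ∣ orderOf a
  · exact Subgroup.mem_center_iff.1 (hcent b fun hb => hℓ.not_dvd_one (hab ▸ Nat.dvd_gcd hd hb)) a
  · exact (Subgroup.mem_center_iff.1 (hcent a hd) b).symm

variable {F : Type*} [Field F] [Fintype F] {K : Type*} [Field K] [Algebra F K] [Fintype K] {p : ℕ} [Fact p.Prime] [CharP F p]
variable {V : Type*} [AddCommGroup V] [Module F V] [Module.Finite F V] [Nontrivial V]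

theorem natDegree_minpoly_pow {a : K} {k k' : ℕ} (h : (a ^ k) ^ k' = a) :
    (minpoly F (a ^ k)).natDegree = (minpoly F a).natDegree := by
  rw [← IntermediateField.adjoin.finrank (Algebra.IsIntegral.isIntegral (R := F) (a ^ k)),
    ← IntermediateField.adjoin.finrank (Algebra.IsIntegral.isIntegral (R := F) a)]
  have e : IntermediateField.adjoin F {a ^ k} = IntermediateField.adjoin F {a} := by
    refine le_antisymm ?_ ?_ <;> rw [IntermediateField.adjoin_simple_le_iff]
    · exact pow_mem (IntermediateField.mem_adjoin_simple_self F a) k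
    · have := pow_mem (IntermediateField.mem_adjoin_simple_self F (a ^ k)) k'
      rwa [h] at this
  rw [e]

theorem aeval_pow_minpoly {s : Module.End F V} {a : K} (h : aeval s (minpoly F a) = 0) (k : ℕ) :
    aeval (s ^ k) (minpoly F (a ^ k)) = 0 := by
  obtain ⟨c, hc⟩ := minpoly.dvd F a (p := (minpoly F (a ^ k)).comp (X ^ k)) (by
    rw [aeval_comp, map_pow, aeval_X, minpoly.aeval])
  have := congrArg (aeval s) hc
  rwa [aeval_comp, map_pow, aeval_X, map_mul, h, zero_mul] at this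

open Classical in
theorem maps_term (θ : Kˣ →* ℂˣ) {E : Type u} [Group E] [Finite E] (ρ : E →* Module.End F V)
    {ψ : GaloisPos.QBar →ₐ[ℚ] ℂ} {k k' : ℕ} (hkk : ∀ e : E, (e ^ k) ^ k' = e) (hka : ∀ a : Kˣ, (a ^ k) ^ k' = a)
    (hθ : ∀ a : Kˣ, Star.Maps ψ (θ a : ℂ) (θ (a ^ k) : ℂ)) {u s : E} (hc : Commute u s)
    (hu : IsNilpotent (ρ u - 1)) {e : ℕ} (he : ¬ p ∣ e) (hs : s ^ e = 1) (a : Kˣ) :
    Star.Maps ψ (term θ (ρ (u * s)) a) (term θ (ρ ((u * s) ^ k)) (a ^ k)) := by
  have hnilk : ∀ m : ℕ, IsNilpotent (ρ (u ^ m) - 1) := fun m => by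
    obtain ⟨c, hc'⟩ : (ρ u - 1) ∣ (ρ u ^ m - 1) := sub_one_dvd_pow_sub_one _ m
    rw [map_pow]
    have hcomm : Commute (ρ u - 1) (ρ u ^ m - 1) := by
      refine Commute.sub_left ?_ (Commute.one_left _)
      exact ((Commute.refl _).pow_right m).sub_right (Commute.one_right _)
    obtain ⟨N, hN⟩ := hu
    refine ⟨N, ?_⟩
    have hgs : ρ u ^ m - 1 = (∑ i ∈ Finset.range m, ρ u ^ i) * (ρ u - 1) := (geom_sum_mul _ m).symm
    rw [hgs, Commute.mul_pow (Commute.sum_left _ _ _ fun i _ =>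
      ((Commute.refl _).pow_left i).sub_right (Commute.one_right _)), hN, mul_zero]
  rw [map_mul, hc.mul_pow k, map_mul,
    term_mul (p := p) θ (hc.map ρ) hu he (by rw [← map_pow, hs, map_one]),
    term_mul (p := p) θ ((hc.pow_pow k k).map ρ) (hnilk k) he (by rw [← map_pow, ← pow_mul, mul_comm, pow_mul, hs, one_pow, map_one])]
  rw [Units.val_pow_eq_pow_val, natDegree_minpoly_pow (k' := k') (by
    rw [← Units.val_pow_eq_pow_val, ← Units.val_pow_eq_pow_val, hka])]
  have hiff : aeval (ρ (s ^ k)) (minpoly F ((a : K) ^ k)) = 0 ↔ aeval (ρ s) (minpoly F (a : K)) = 0 := by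
    refine ⟨fun h => ?_, fun h => by rw [map_pow]; exact aeval_pow_minpoly h k⟩
    have := aeval_pow_minpoly h k'
    rwa [← map_pow, hkk, ← Units.val_pow_eq_pow_val, ← Units.val_pow_eq_pow_val, hka] at this
  have hker : LinearMap.ker (ρ (u ^ k) - 1) = LinearMap.ker (ρ u - 1) := by
    have key : ∀ (x : E) (m : ℕ), LinearMap.ker (ρ x - 1) ≤ LinearMap.ker (ρ (x ^ m) - 1) := by
      intro x m v hv
      rw [LinearMap.mem_ker, map_pow, ← geom_sum_mul, Module.End.mul_apply, LinearMap.mem_ker.1 hv, map_zero]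
    exact le_antisymm (by simpa [hkk] using key (u ^ k) k') (key u k)
  rw [hker]
  by_cases h : aeval (ρ s) (minpoly F (a : K)) = 0
  · rw [if_pos h, if_pos (hiff.2 h)]
    exact Star.maps_mul (hθ a) ⟨intCast_mem _ _, by
      exact (congrArg ψ (show (⟨_, intCast_mem _ _⟩ : GaloisPos.QBar) = _ from rfl)).trans (map_intCast ψ _)⟩
  · rw [if_neg h, if_neg fun h' => h (hiff.1 h')]
    exact Star.maps_zero

/-- The inner products with characters of elementary groups are rational integers. -/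
theorem average_int (p : ℕ) [Fact p.Prime] [CharP F p] (θ : Kˣ →* ℂˣ) (hn : finrank F V = finrank F K) {E : Type u} [Group E] [Fintype E]
    {ℓ : ℕ} (hℓ : ℓ.Prime) (hE : IsElementary ℓ E)
    (ρ : E →* Module.End F V) {η : E → ℂ} (hη : IsCharacter E η) :
    ∃ m : ℤ, (Nat.card E : ℂ)⁻¹ * ∑ e : E, η e * chiVal θ (ρ e) = m := by
  classical
  have := BrauerInd.isNilpotent_of_isElementary hℓ hE
  let P : Sylow p E := default
  have hPn : (P : Subgroup E).Normal := P.normal_of_normalizerCondition normalizerCondition_of_isNilpotent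
  have hcop : Nat.Coprime (Nat.card (P : Subgroup E)) (P : Subgroup E).index := P.card_coprime_index
  obtain ⟨S, hS⟩ := Subgroup.exists_right_complement'_of_coprime hcop
  have hScard : Nat.card S = (P : Subgroup E).index := hS.symm.index_eq_card.symm
  have hSp : ¬ p ∣ Nat.card S := hScard ▸ P.not_dvd_index
  have hcomm : ∀ u ∈ (P : Subgroup E), ∀ s ∈ S, Commute u s := fun u hu s hs =>
    commute_of_isElementary hℓ hE (Nat.Coprime.coprime_dvd_left (Subgroup.orderOf_dvd_natCard _ hu)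
      (Nat.Coprime.coprime_dvd_right (hScard ▸ Subgroup.orderOf_dvd_natCard _ hs) hcop))
  let eqv : ↥(P : Subgroup E) × ↥S ≃ E := Equiv.ofBijective (fun x : ↥(P : Subgroup E) × ↥S => (x.1 : E) * (x.2 : E)) hS
  have hsplit : ∀ f : E → ℂ, ∑ e, f e = ∑ u : (P : Subgroup E), ∑ s : S, f (u * s) := fun f => by
    rw [← Fintype.sum_prod_type', ← eqv.sum_comp]; rfl
  set f : E → ℂ := fun e => η e * chiVal θ (ρ e)
  set c := (Nat.card E : ℂ)⁻¹ * ∑ e, f e
  have hcard : (Nat.card E : ℂ) = (Nat.card (P : Subgroup E) : ℂ) * (Nat.card S : ℂ) := by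
    rw [← Nat.cast_mul, ← Nat.card_prod, Nat.card_congr eqv]
  have hP0 : (Nat.card (P : Subgroup E) : ℂ) ≠ 0 := Nat.cast_ne_zero.2 Nat.card_pos.ne'
  have hS0 : (Nat.card S : ℂ) ≠ 0 := Nat.cast_ne_zero.2 Nat.card_pos.ne'
  -- the two partial integrality statements
  choose N hN using fun u : (P : Subgroup E) => exists_pow_mul_average_integral (p := p) θ hn ρ S hSp u
    (isNilpotent_sub_one ρ P.2 u.2) (fun s hs => hcomm u u.2 s hs) hη
  set M := Finset.univ.sup N
  have hq : IsIntegral ℤ (Fintype.card F : ℂ) := isIntegral_algebraMap (R := ℤ) (x := (Fintype.card F : ℤ))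
  have h1 : IsIntegral ℤ ((Fintype.card F : ℂ) ^ M * (Nat.card (P : Subgroup E) : ℂ) * c) := by
    have e : (Fintype.card F : ℂ) ^ M * (Nat.card (P : Subgroup E) : ℂ) * c = ∑ u : (P : Subgroup E),
        (Fintype.card F : ℂ) ^ (M - N u) * ((Fintype.card F : ℂ) ^ N u *
          ((Nat.card S : ℂ)⁻¹ * ∑ s : S, η (u * s) * chiVal θ (ρ (u * s)))) := by
      have hpow : ∀ (u : (P : Subgroup E)) (z : ℂ), (Fintype.card F : ℂ) ^ (M - N u) * ((Fintype.card F : ℂ) ^ N u * z) =
          (Fintype.card F : ℂ) ^ M * z := fun u z => by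
        rw [← mul_assoc, ← pow_add, Nat.sub_add_cancel (Finset.le_sup (f := N) (Finset.mem_univ u))]
      simp only [hpow]
      rw [← Finset.mul_sum, ← Finset.mul_sum, show c = (Nat.card E : ℂ)⁻¹ * ∑ e, f e from rfl, hsplit, hcard, mul_inv]
      field_simp
      rfl
    rw [e]
    exact IsIntegral.sum _ fun u _ => (hq.pow _).mul (hN u)
  have h2 : IsIntegral ℤ ((denom (Fintype.card F) (finrank F V) : ℂ) * (Nat.card S : ℂ) * c) := by
    have e : (denom (Fintype.card F) (finrank F V) : ℂ) * (Nat.card S : ℂ) * c = ∑ s : S,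
        (denom (Fintype.card F) (finrank F V) : ℂ) * ((Nat.card (P : Subgroup E) : ℂ)⁻¹ *
          ∑ u : (P : Subgroup E), η (u * s) * chiVal θ (ρ (u * s))) := by
      rw [← Finset.mul_sum, ← Finset.mul_sum, Finset.sum_comm, show c = (Nat.card E : ℂ)⁻¹ * ∑ e, f e from rfl,
        hsplit, hcard, mul_inv]
      field_simp
      rfl
    rw [e]
    exact IsIntegral.sum _ fun s _ => denom_mul_average_integral (p := p) θ ρ (P : Subgroup E) P.2 s hSp
      (congrArg Subtype.val (pow_card_eq_one' (x := s))) (fun u hu => (hcomm u hu s s.2).symm) hη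
  have hint : IsIntegral ℤ c := by
    obtain ⟨m, hm⟩ := IsPGroup.iff_card.1 P.2
    obtain ⟨r, hr⟩ : ∃ r : ℕ, Fintype.card F = p ^ r := by
      obtain ⟨r, -, hr⟩ := FiniteField.card F p; exact ⟨r, hr⟩
    have hd : ¬ (p : ℤ) ∣ denom (Fintype.card F) (finrank F V) * (Nat.card S : ℤ) := fun h =>
      ((Nat.prime_iff_prime_int.1 Fact.out).dvd_or_dvd h).elim
        (not_dvd_denom Fact.out (hr ▸ dvd_pow_self p (by rintro rfl; have := Fintype.one_lt_card (α := F); simp [hr] at this)) _)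
        (fun h => hSp (Int.natCast_dvd_natCast.1 h))
    have hco : IsCoprime ((Fintype.card F : ℤ) ^ M * (Nat.card (P : Subgroup E) : ℤ))
        (denom (Fintype.card F) (finrank F V) * (Nat.card S : ℤ)) := by
      have := ((Nat.prime_iff_prime_int.1 (Fact.out : p.Prime)).coprime_iff_not_dvd.2 hd).pow_left (m := r * M + m)
      rw [hr] at this ⊢
      rw [hm, Nat.cast_pow, Nat.cast_pow, ← pow_mul, ← pow_add]
      exact this
    obtain ⟨a, b, hab⟩ := hco
    have e := congrArg (Int.cast : ℤ → ℂ) hab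
    push_cast at e
    rw [← one_mul c, ← e, show ((a : ℂ) * ((Fintype.card F : ℂ) ^ M * (Nat.card (P : Subgroup E) : ℂ)) +
      (b : ℂ) * ((denom (Fintype.card F) (finrank F V) : ℂ) * (Nat.card S : ℂ))) * c =
      (a : ℂ) * ((Fintype.card F : ℂ) ^ M * (Nat.card (P : Subgroup E) : ℂ) * c) +
      (b : ℂ) * ((denom (Fintype.card F) (finrank F V) : ℂ) * (Nat.card S : ℂ) * c) by ring]
    exact ((isIntegral_algebraMap (R := ℤ) (x := a)).mul h1).add ((isIntegral_algebraMap (R := ℤ) (x := b)).mul h2)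
  refine Star.exists_int_of_maps hint fun ψ => ?_
  obtain ⟨k, hk, hkmap⟩ := Star.exists_pow_char_subgroup (G := E × Kˣ) ψ
  rw [Nat.card_prod] at hk
  have hkE : Nat.Coprime k (Nat.card E) := hk.coprime_mul_right_right
  have hkK : Nat.Coprime k (Nat.card Kˣ) := hk.coprime_mul_left_right
  obtain ⟨k', hk'⟩ : ∃ k' : ℕ, k * k' ≡ 1 [MOD Nat.card E * Nat.card Kˣ] :=
    ⟨k ^ (Nat.totient (Nat.card E * Nat.card Kˣ) - 1), by
      rw [← pow_succ', Nat.sub_add_cancel (Nat.totient_pos.2 (Nat.mul_pos Nat.card_pos Nat.card_pos))]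
      exact Nat.ModEq.pow_totient hk⟩
  have hkk : ∀ e : E, (e ^ k) ^ k' = e := fun e => by
    rw [← pow_mul]
    conv_rhs => rw [← pow_one e]
    exact pow_eq_pow_iff_modEq.2 ((hk'.of_mul_right _).of_dvd (orderOf_dvd_natCard e))
  have hka : ∀ a : Kˣ, (a ^ k) ^ k' = a := fun a => by
    rw [← pow_mul]
    conv_rhs => rw [← pow_one a]
    exact pow_eq_pow_iff_modEq.2 ((hk'.of_mul_left _).of_dvd (orderOf_dvd_natCard a))
  have hθ : ∀ a : Kˣ, Star.Maps ψ (θ a : ℂ) (θ (a ^ k) : ℂ) := fun a => by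
    simpa using hkmap ⊤ _ (Chars.isCharacter_comp ((MonoidHom.snd E Kˣ).comp (⊤ : Subgroup (E × Kˣ)).subtype)
      (Chars.isCharacter_hom θ)) ⟨(1, a), trivial⟩
  have hηm : ∀ x : E, Star.Maps ψ (η x) (η (x ^ k)) := fun x => by
    simpa using hkmap ⊤ _ (Chars.isCharacter_comp ((MonoidHom.fst E Kˣ).comp (⊤ : Subgroup (E × Kˣ)).subtype) hη)
      ⟨(x, 1), trivial⟩
  have hterm : ∀ x : E, Star.Maps ψ (f x) (f (x ^ k)) := by
    intro x
    obtain ⟨⟨u, s⟩, rfl⟩ := eqv.surjective x
    refine Star.maps_mul (hηm _) ?_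
    have e : chiVal θ (ρ ((eqv (u, s)) ^ k)) = ∑ a : Kˣ, term θ (ρ ((eqv (u, s)) ^ k)) (a ^ k) :=
      ((powCoprime hkK.symm).sum_comp fun a => term θ (ρ ((eqv (u, s)) ^ k)) a).symm
    rw [e]
    exact Star.maps_sum _ fun a _ => maps_term (p := p) θ ρ hkk hka hθ (hcomm u u.2 s s.2)
      (isNilpotent_sub_one ρ P.2 u.2) hSp (congrArg Subtype.val (pow_card_eq_one' (x := s))) a
  have hre : ∑ e, f (e ^ k) = ∑ e, f e := (powCoprime hkE.symm).sum_comp f
  refine Star.maps_mul ?_ (by conv => arg 3; rw [← hre]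
                              exact Star.maps_sum _ fun x _ => hterm x)
  refine ⟨inv_mem (natCast_mem _ _), ?_⟩
  exact (congrArg ψ (show (⟨_, inv_mem (natCast_mem _ _)⟩ : GaloisPos.QBar) = ((Nat.card E : ℕ) : GaloisPos.QBar)⁻¹ from rfl)).trans
    (by rw [map_inv₀, map_natCast])

/-- The class functions attached to the characters of the extension field are generalized characters. -/
theorem isGeneralizedCharacter_chiVal [Finite V] (θ : Kˣ →* ℂˣ) (hn : finrank F V = finrank F K) :
    IsGeneralizedCharacter (Module.End F V)ˣ fun g => chiVal θ (g : Module.End F V) := by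
  classical
  obtain ⟨p, hp⟩ := CharP.exists F
  have := Fact.mk (CharP.char_is_prime F p)
  have : Finite (Module.End F V) := Finite.of_injective _ DFunLike.coe_injective
  let _ := Fintype.ofFinite (Module.End F V)ˣ
  refine BrauerInd.isGeneralizedCharacter_of_elementary ?_ fun E ℓ hℓ hE => ?_
  · intro g h
    exact chiVal_conj θ (LinearMap.GeneralLinearGroup.generalLinearEquiv F V h) (g : Module.End F V)
  let _ := Fintype.ofFinite E
  refine Chars.isGeneralizedCharacter_of_classInner_int (fun g h => ?_) fun χ => ?_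
  · exact chiVal_conj θ (LinearMap.GeneralLinearGroup.generalLinearEquiv F V (h : (Module.End F V)ˣ))
      ((g : (Module.End F V)ˣ) : Module.End F V)
  · obtain ⟨m, hm⟩ := average_int p θ hn hℓ hE ((Units.coeHom _).comp E.subtype)
      (Chars.isCharacter_star (Chars.irr_isCharacter χ))
    refine ⟨m, ?_⟩
    rw [← hm, classInner]
    congr 1
    exact Finset.sum_congr rfl fun e _ => mul_comm _ _

end Cfsg.Agent.Lib.GLCuspidal
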