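import Cfsg.Agent.Lib.GLCuspidal.IntegralRegular

/-!
Averages over subgroups of prime power order in the characteristic.
-/

set_option autoImplicit false
set_option linter.unusedSectionVars false

namespace Cfsg.Agent.Lib.GLCuspidal

open Module Polynomial Cfsg

universe u

/-- A common denominator prime to the characteristic. -/
def denom (q n : ℕ) : ℤ := ∏ d ∈ Finset.range n, ∏ i ∈ Finset.range n, ((q : ℤ) ^ ((d + 1) * (i + 1)) - 1)

theorem not_dvd_denom {q p : ℕ} (hp : p.Prime) (hq : p ∣ q) (n : ℕ) : ¬ (p : ℤ) ∣ denom q n := by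
  intro h
  rw [denom] at h
  obtain ⟨d, -, h⟩ := (Nat.prime_iff_prime_int.1 hp).exists_mem_finset_dvd h
  obtain ⟨i, -, h⟩ := (Nat.prime_iff_prime_int.1 hp).exists_mem_finset_dvd h
  have h1 : (p : ℤ) ∣ (q : ℤ) ^ ((d + 1) * (i + 1)) :=
    dvd_pow (Int.natCast_dvd_natCast.2 hq) (Nat.mul_ne_zero (Nat.succ_ne_zero d) (Nat.succ_ne_zero i))
  exact (Nat.prime_iff_prime_int.1 hp).not_dvd_one (by simpa using dvd_sub h1 h)

theorem phi_succ_dvd_denom {q n d j : ℕ} (hd : 1 ≤ d) (hdn : d ≤ n) (hjn : j ≤ n) :
    phi (q ^ d) (j + 1) ∣ denom q n := by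
  refine dvd_trans ?_ (Finset.dvd_prod_of_mem _ (Finset.mem_range.2 (show d - 1 < n by omega)))
  rw [phi, Nat.add_sub_cancel]
  refine dvd_trans (Finset.prod_dvd_prod_of_dvd _ _ fun i _ => ?_)
    (Finset.prod_dvd_prod_of_subset _ _ (fun i => (q : ℤ) ^ ((d - 1 + 1) * (i + 1)) - 1)
      (Finset.range_mono hjn))
  rw [Nat.sub_add_cancel hd, pow_mul, Nat.cast_pow]
  exact ⟨-1, by ring⟩

section expansion

variable {K : Type*} [Field K] [Fintype K] {V : Type*} [AddCommGroup V] [Module K V] [Fintype V]

local notation "Q" => (Fintype.card K)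

open Classical in
theorem card_li_range_le (U : Submodule K V) (j : ℕ) :
    (Nat.card {v : Fin j → V // LinearIndependent K v ∧ ∀ i, v i ∈ U} : ℤ) =
      ∑ W ∈ Finset.univ.filter (fun W : Submodule K V => W ≤ U ∧ finrank K W = j), (frames Q j : ℤ) := by
  let Ws := {W : Submodule K V // W ≤ U ∧ finrank K W = j}
  let g : (Σ W : Ws, {w : Fin j → W.1 // LinearIndependent K w}) → {v : Fin j → V // LinearIndependent K v ∧ ∀ i, v i ∈ U} :=
    fun d => ⟨fun i => (d.2.1 i : V), d.2.2.map' d.1.1.subtype d.1.1.ker_subtype, fun i => d.1.2.1 (d.2.1 i).2⟩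
  have hg : Function.Bijective g := by
    refine ⟨?_, fun v => ⟨⟨⟨Submodule.span K (Set.range v.1), Submodule.span_le.2 (by rintro _ ⟨i, rfl⟩; exact v.2.2 i),
        by rw [finrank_span_eq_card v.2.1, Fintype.card_fin]⟩,
        fun i => ⟨v.1 i, Submodule.subset_span ⟨i, rfl⟩⟩, linearIndependent_span v.2.1⟩, rfl⟩⟩
    rintro ⟨⟨W, hW⟩, w, hw⟩ ⟨⟨W', hW'⟩, w', hw'⟩ heq
    have heq' : (fun i => (w i : V)) = fun i => (w' i : V) := congrArg Subtype.val heq
    have hspan : ∀ {W : Submodule K V} (w : Fin j → W), LinearIndependent K w → finrank K W = j →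
        Submodule.span K (Set.range fun i => (w i : V)) = W := by
      intro W w hw hW
      have h1 := hw.span_eq_top_of_card_eq_finrank' (by rw [Fintype.card_fin, hW])
      have h2 := congrArg (Submodule.map W.subtype) h1
      rwa [Submodule.map_span, Submodule.map_top, Submodule.range_subtype, ← Set.range_comp] at h2
    have hWW : W = W' := (hspan (W := W) w hw hW.2).symm.trans
      ((congrArg (fun f : Fin j → V => Submodule.span K (Set.range f)) heq').trans (hspan (W := W') w' hw' hW'.2))
    subst hWW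
    have : w = w' := funext fun i => Subtype.ext (congrFun heq' i)
    subst this
    rfl
  let e := (Equiv.ofBijective g hg).symm
  rw [Nat.card_congr e, Nat.card_sigma, Nat.cast_sum, Finset.sum_subtype (p := fun W : Submodule K V => W ≤ U ∧ finrank K W = j)
    (Finset.univ.filter fun W : Submodule K V => W ≤ U ∧ finrank K W = j) (by simp)]
  refine Finset.sum_congr rfl fun W _ => ?_
  rw [card_linearIndependent (W.2.2.ge)]
  simp only [frames, W.2.2]

open Classical in
/-- `phi` in terms of tuples. -/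
theorem phi_expansion (U : Submodule K V) (hU : U ≠ ⊥) {n : ℕ} (D : ℤ) (hn : finrank K U ≤ n)
    (hD : ∀ j, j ≤ n → phi Q (j + 1) ∣ D) :
    ∑ j ∈ Finset.Icc 1 n, (-(j : ℤ) * (D / phi Q (j + 1))) *
        (Nat.card {v : Fin j → V // LinearIndependent K v ∧ ∀ i, v i ∈ U} : ℤ) = D * phi Q (finrank K U) := by
  have h := (sum_le_mu_and_wt U).2
  rw [if_neg hU] at h
  rw [← h, Finset.mul_sum, ← Finset.sum_fiberwise_of_maps_to (t := Finset.range (n + 1)) (g := fun W : Submodule K V => finrank K W)
    (fun W hW => Finset.mem_range.2 (Nat.lt_succ_of_le ((Submodule.finrank_mono (Finset.mem_filter.1 hW).2).trans hn)))]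
  rw [show Finset.range (n + 1) = insert 0 (Finset.Icc 1 n) by ext; simp; omega, Finset.sum_insert (by simp),
    Finset.sum_eq_zero (s := (Finset.univ.filter (fun W : Submodule K V => W ≤ U)).filter fun W : Submodule K V => finrank K W = 0)
      (fun (W : Submodule K V) hW => by rw [(Finset.mem_filter.1 hW).2, wt_zero, mul_zero]), zero_add]
  refine Finset.sum_congr rfl fun j hj => ?_
  simp only [Finset.mem_Icc] at hj
  rw [card_li_range_le, Finset.mul_sum, Finset.filter_filter]
  refine Finset.sum_congr rfl fun W hW => ?_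
  rw [(Finset.mem_filter.1 hW).2.2, frames_eq Q Fintype.card_pos j hj.1, wt]
  have hdiv := Int.ediv_mul_cancel (hD j hj.2)
  rw [phi_succ _ _ hj.1] at hdiv ⊢
  linear_combination (-(j : ℤ) * mu Q j) * hdiv

end expansion

variable {F : Type*} [Field F] [Fintype F] {K : Type*} [Field K] [Algebra F K] [Fintype K] {p : ℕ} [Fact p.Prime] [CharP F p]
variable {V : Type*} [AddCommGroup V] [Module F V] [Module.Finite F V] [Nontrivial V]

theorem isNilpotent_sub_one {E : Type u} [Group E] [Finite E] (ρ : E →* Module.End F V) {P : Subgroup E}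
    (hP : IsPGroup p P) {u : E} (hu : u ∈ P) : IsNilpotent (ρ u - 1) := by
  have : CharP (Module.End F V) p := charP_of_injective_algebraMap (algebraMap F (Module.End F V)).injective p
  obtain ⟨m, hm⟩ := hP ⟨u, hu⟩
  refine ⟨p ^ m, ?_⟩
  rw [sub_pow_char_pow_of_commute p m (Commute.one_right _), one_pow, ← map_pow,
    show u ^ p ^ m = 1 from congrArg Subtype.val hm, map_one, sub_self]

/-- The average over a `p`-subgroup, times a number prime to `p`, is integral. -/
theorem denom_mul_average_integral (θ : Kˣ →* ℂˣ) {E : Type u} [Group E] [Finite E]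
    (ρ : E →* Module.End F V) (P : Subgroup E) [Fintype P] (hP : IsPGroup p P) (s : E) {e : ℕ} (he : ¬ p ∣ e)
    (hs : s ^ e = 1) (hsP : ∀ u ∈ P, Commute s u) {η : E → ℂ} (hη : IsCharacter E η) :
    IsIntegral ℤ ((denom (Fintype.card F) (finrank F V) : ℂ) *
      ((Nat.card P : ℂ)⁻¹ * ∑ u : P, η (u * s) * chiVal θ (ρ (u * s)))) := by
  classical
  set q := Fintype.card F
  set n := finrank F V
  have hterm : ∀ u : P, chiVal θ (ρ (u * s)) = ∑ a : Kˣ, if aeval (ρ s) (minpoly F (a : K)) = 0 then
      (θ a : ℂ) * (phi (q ^ (minpoly F (a : K)).natDegree)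
        (finrank F (LinearMap.ker (ρ u - 1)) / (minpoly F (a : K)).natDegree) : ℂ) else 0 := fun u => by
    rw [map_mul]
    exact Finset.sum_congr rfl fun a _ => term_mul (p := p) θ ((hsP u u.2).symm.map ρ) (isNilpotent_sub_one ρ hP u.2)
      he (by rw [← map_pow, hs, map_one]) a
  simp only [hterm, Finset.mul_sum]
  rw [Finset.sum_comm]
  refine IsIntegral.sum _ fun a _ => ?_
  by_cases ha : aeval (ρ s) (minpoly F (a : K)) = 0
  swap
  · simp only [if_neg ha, mul_zero, Finset.sum_const_zero]
    exact isIntegral_zero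
  simp only [if_pos ha]
  set π := minpoly F (a : K)
  have hm : π.Monic := minpoly_monic a
  have := Fact.mk (minpoly_irreducible (F := F) a)
  have := finite_root (π := π) hm
  have : Finite (AdjoinRoot π) := Module.finite_of_finite F
  let _ := Fintype.ofFinite (AdjoinRoot π)
  have : Finite V := Module.finite_of_finite F
  let _ := Fintype.ofFinite V
  let _ := rootModule (ρ s) ha
  have := isScalarTower_root (ρ s) ha
  have := Module.Finite.of_restrictScalars_finite F (AdjoinRoot π) V
  have hQ : Fintype.card (AdjoinRoot π) = q ^ π.natDegree := by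
    rw [← Nat.card_eq_fintype_card, natCard_root hm, Nat.card_eq_fintype_card]
  have hmul := finrank_eq_mul hm (ρ s) ha
  set m := finrank (AdjoinRoot π) V
  have hd : 1 ≤ π.natDegree := (minpoly_irreducible (F := F) a).natDegree_pos
  have hmn : m ≤ n := by rw [show n = _ from hmul]; exact Nat.le_mul_of_pos_left _ hd
  have hdn : π.natDegree ≤ n := by
    rw [show n = _ from hmul]
    refine Nat.le_mul_of_pos_right _ ?_
    exact Module.finrank_pos
  have hcommP : ∀ u : P, (ρ u) ∘ₗ ρ s = ρ s ∘ₗ ρ u := fun u => ((hsP u u.2).symm.map ρ).eq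
  let uL : P → (V →ₗ[AdjoinRoot π] V) := fun u =>
    { toFun := fun v => ρ u v
      map_add' := fun x y => map_add _ x y
      map_smul' := fun c v => map_smul_of_comm (ρ s) ha (ρ s) ha (ρ u) (hcommP u) c v }
  have hinj : ∀ u : P, LinearMap.ker (uL u) = ⊥ := fun u => LinearMap.ker_eq_bot'.2 fun v hv => by
    have := congrArg (ρ (u⁻¹ : P)) (show ρ u v = 0 from hv)
    rwa [← Module.End.mul_apply, ← map_mul, ← Subgroup.coe_mul, inv_mul_cancel, OneMemClass.coe_one, map_one,
      map_zero, Module.End.one_apply] at this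
  let _ : ∀ j, MulAction P {v : Fin j → V // LinearIndependent (AdjoinRoot π) v} := fun j =>
    { smul := fun u v => ⟨fun i => ρ u (v.1 i), v.2.map' (uL u) (hinj u)⟩
      one_smul := fun v => Subtype.ext (funext fun i => by
        show ρ ((1 : P) : E) (v.1 i) = v.1 i
        rw [OneMemClass.coe_one, map_one, Module.End.one_apply])
      mul_smul := fun x y v => Subtype.ext (funext fun i => by
        show ρ ((x * y : P) : E) (v.1 i) = ρ x (ρ y (v.1 i))
        rw [Subgroup.coe_mul, map_mul, Module.End.mul_apply]) }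
  let c : ℕ → ℤ := fun j => -(j : ℤ) * (denom q n / phi (q ^ π.natDegree) (j + 1))
  have key : ∀ u : P, (denom q n : ℂ) * (phi (q ^ π.natDegree) (finrank F (LinearMap.ker (ρ u - 1)) / π.natDegree) : ℂ) =
      ∑ j ∈ Finset.Icc 1 n, (c j : ℂ) *
        (Nat.card (MulAction.fixedBy {v : Fin j → V // LinearIndependent (AdjoinRoot π) v} u) : ℂ) := by
    intro u
    let U : Submodule (AdjoinRoot π) V := LinearMap.ker (uL u - LinearMap.id)
    have hUset : ∀ v, v ∈ U ↔ (ρ u - 1) v = 0 := fun v => Iff.rfl
    have hU : U ≠ ⊥ := by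
      intro h
      obtain ⟨N, hN⟩ := isNilpotent_sub_one ρ hP u.2
      have hinj' : Function.Injective ⇑(ρ u - 1) := LinearMap.ker_eq_bot.1 (LinearMap.ker_eq_bot'.2 fun v hv => by
        have : v ∈ U := (hUset v).2 hv
        rwa [h, Submodule.mem_bot] at this)
      have : Function.Injective ⇑((ρ u - 1) ^ N) := by rw [Module.End.coe_pow]; exact hinj'.iterate N
      obtain ⟨v, hv⟩ := exists_ne (0 : V)
      exact hv (this (by rw [hN]; simp))
    have hfr : finrank F (LinearMap.ker (ρ u - 1)) / π.natDegree = finrank (AdjoinRoot π) U := by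
      have e : LinearMap.ker (ρ u - 1) = U.restrictScalars F := SetLike.ext fun v => (hUset v).symm
      rw [e, show finrank F (U.restrictScalars F) = finrank F U from rfl,
        ← Module.finrank_mul_finrank F (AdjoinRoot π) U, finrank_root hm, Nat.mul_div_cancel_left _ hd]
    have hUm : finrank (AdjoinRoot π) U ≤ n := (Submodule.finrank_le U).trans hmn
    have h := phi_expansion U hU (denom q n) hUm fun j hj => hQ ▸ phi_succ_dvd_denom hd hdn hj
    rw [hQ] at h
    rw [hfr]
    have h2 := congrArg (Int.cast : ℤ → ℂ) h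
    push_cast at h2
    rw [← h2]
    refine Finset.sum_congr rfl fun j _ => ?_
    congr 1
    · simp [c]
    · congr 1
      refine Nat.card_congr ((Equiv.subtypeSubtypeEquivSubtypeInter _ fun v : Fin j → V => ∀ i, v i ∈ U).symm.trans
        (Equiv.subtypeEquivRight fun v => ?_))
      rw [MulAction.mem_fixedBy, Subtype.ext_iff, funext_iff]
      refine forall_congr' fun i => ?_
      rw [hUset, LinearMap.sub_apply, Module.End.one_apply, sub_eq_zero]
      rfl
  have hsum : ∑ u : P, (denom q n : ℂ) * ((Nat.card P : ℂ)⁻¹ * (η (u * s) * ((θ a : ℂ) *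
      (phi (q ^ π.natDegree) (finrank F (LinearMap.ker (ρ u - 1)) / π.natDegree) : ℂ)))) =
      (θ a : ℂ) * ∑ j ∈ Finset.Icc 1 n, (c j : ℂ) * ((Nat.card P : ℂ)⁻¹ * ∑ u : P, η (s * P.subtype u) *
        (Nat.card (MulAction.fixedBy {v : Fin j → V // LinearIndependent (AdjoinRoot π) v} u) : ℂ)) := by
    simp only [Finset.mul_sum]
    rw [Finset.sum_comm]
    refine Finset.sum_congr rfl fun u _ => ?_
    rw [show (u : E) * s = s * P.subtype u from (hsP u u.2).eq.symm]
    calc _ = (θ a : ℂ) * ((Nat.card P : ℂ)⁻¹ * η (s * P.subtype u) *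
          ((denom q n : ℂ) * (phi (q ^ π.natDegree) (finrank F (LinearMap.ker (ρ u - 1)) / π.natDegree) : ℂ))) := by ring
      _ = _ := by
        rw [key, Finset.mul_sum, Finset.mul_sum]
        exact Finset.sum_congr rfl fun j _ => by ring
  rw [hsum]
  refine IsIntegral.mul ?_ (IsIntegral.sum _ fun j _ => (isIntegral_algebraMap (R := ℤ) (x := c j)).mul
    (isIntegral_average P.subtype s (fun u => hsP u u.2) hη
      (Chars.isGeneralizedCharacter_of_isCharacter (Chars.isCharacter_permChar _))))
  refine IsIntegral.of_pow (n := Fintype.card Kˣ) Fintype.card_pos ?_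
  rw [← Units.val_pow_eq_pow_val, ← map_pow, pow_card_eq_one, map_one, Units.val_one]
  exact isIntegral_one

end Cfsg.Agent.Lib.GLCuspidal
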