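import Cfsg.Agent.Lib.GLCuspidal.Weights

/-!
The sum of the squares of the unipotent values over all unipotent elements.
-/

set_option autoImplicit false
set_option linter.unusedSectionVars false

namespace Cfsg.Agent.Lib.GLCuspidal

open Module

theorem sum_comp_surjective {A B : Type*} [AddCommGroup A] [Fintype A] [AddCommGroup B] [Fintype B]
    (f : A →+ B) (hf : Function.Surjective f) (F : B → ℤ) :
    ∑ a, F (f a) = (Nat.card f.ker : ℤ) * ∑ b, F b := by
  classical
  rw [← Finset.sum_fiberwise_of_maps_to (t := Finset.univ) (g := f) (fun a _ => Finset.mem_univ _), Finset.mul_sum]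
  refine Finset.sum_congr rfl fun b _ => ?_
  obtain ⟨a₀, rfl⟩ := hf b
  rw [Finset.sum_congr rfl (g := fun _ => F (f a₀)) fun a ha => by rw [(Finset.mem_filter.1 ha).2],
    Finset.sum_const, nsmul_eq_mul]
  congr 2
  rw [Nat.card_eq_fintype_card, ← Fintype.card_coe]
  refine Fintype.card_congr
    { toFun := fun a => ⟨a.1 - a₀, by
        have := (Finset.mem_filter.1 a.2).2
        rw [AddMonoidHom.mem_ker, map_sub, this, sub_self]⟩
      invFun := fun k => ⟨k.1 + a₀, by
        rw [Finset.mem_filter]
        refine ⟨Finset.mem_univ _, ?_⟩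
        rw [map_add, k.2, zero_add]⟩
      left_inv := fun a => Subtype.ext (sub_add_cancel _ _)
      right_inv := fun k => Subtype.ext (add_sub_cancel_right _ _) }

variable {K : Type*} [Field K] [Fintype K] {V : Type*} [AddCommGroup V] [Module K V] [Fintype V]

local notation "Q" => (Fintype.card K)

open Classical in
/-- The sum over all extensions of a fixed nilpotent map vanishes. -/
theorem sum_phi_extensions {C W : Type*} [AddCommGroup C] [Module K C] [Fintype C] [AddCommGroup W] [Module K W] [Fintype W]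
    [Fintype (C →ₗ[K] W)] (hW : 0 < finrank K W) (U : Submodule K C) (hU : U ≠ ⊥) :
    ∑ B : C →ₗ[K] W, phi Q (finrank K W + finrank K ↥(U ⊓ LinearMap.ker B)) = 0 := by
  set r := finrank K U
  have hr : 0 < r := Nat.pos_of_ne_zero fun h => hU (Submodule.finrank_eq_zero.1 h)
  let b := Module.finBasis K U
  let res : (C →ₗ[K] W) →+ (Fin r → W) :=
    { toFun := fun B i => B (b i : C)
      map_zero' := funext fun i => rfl
      map_add' := fun A B => funext fun i => rfl }
  have hres : Function.Surjective res := fun x => by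
    obtain ⟨B, hB⟩ := LinearMap.exists_extend (b.constr K x)
    refine ⟨B, funext fun i => ?_⟩
    have := LinearMap.congr_fun hB (b i)
    rw [Basis.constr_basis] at this
    exact this
  have key : ∀ B : C →ₗ[K] W, finrank K W + finrank K ↥(U ⊓ LinearMap.ker B) =
      finrank K W + r - finrank K (Submodule.span K (Set.range (res B))) := by
    intro B
    have h := LinearMap.finrank_range_add_finrank_ker (B.domRestrict U)
    have hrange : LinearMap.range (B.domRestrict U) = Submodule.span K (Set.range (res B)) := by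
      rw [LinearMap.range_eq_map, ← b.span_eq, Submodule.map_span, ← Set.range_comp]
      rfl
    have hker : finrank K (LinearMap.ker (B.domRestrict U)) = finrank K ↥(U ⊓ LinearMap.ker B) := by
      rw [LinearMap.ker_domRestrict, ← Submodule.map_comap_subtype,
        Submodule.finrank_map_subtype_eq]
    rw [hrange, hker] at h
    omega
  rw [Finset.sum_congr rfl fun B _ => by rw [key B],
    sum_comp_surjective res hres (fun x => phi Q (finrank K W + r - finrank K (Submodule.span K (Set.range x)))),
    sum_phi_span hW r hr, mul_zero]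

open Classical in
/-- The sum over the nilpotent maps killing a proper non-zero subspace vanishes, and the total. -/
theorem sum_phi_nilpotent_of_le [Fintype (V →ₗ[K] V)] {W : Submodule K V} (hW0 : W ≠ ⊥) (hW1 : W ≠ ⊤) :
    ∑ N ∈ Finset.univ.filter (fun N : Module.End K V => IsNilpotent N ∧ W ≤ LinearMap.ker N),
      phi Q (finrank K (LinearMap.ker N)) = 0 := by
  obtain ⟨C, hC⟩ := W.exists_isCompl
  let e := W.prodEquivOfIsCompl C hC
  have : Finite (C →ₗ[K] W) := Finite.of_injective _ DFunLike.coe_injective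
  let _ := Fintype.ofFinite (C →ₗ[K] W)
  have : Finite (C →ₗ[K] C) := Finite.of_injective _ DFunLike.coe_injective
  let _ := Fintype.ofFinite (C →ₗ[K] C)
  let mk : (C →ₗ[K] C) × (C →ₗ[K] W) → Module.End K V := fun p =>
    e.conj (LinearMap.prod (p.2 ∘ₗ LinearMap.snd K W C) (p.1 ∘ₗ LinearMap.snd K W C))
  have hmk : ∀ p (x : W × C), mk p (e x) = e (p.2 x.2, p.1 x.2) := fun p x => by
    simp [mk, LinearEquiv.conj_apply]
  have hleW : ∀ p, W ≤ LinearMap.ker (mk p) := fun p w hw => by
    have := hmk p (⟨w, hw⟩, 0)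
    rw [Submodule.coe_prodEquivOfIsCompl', map_zero, map_zero] at this
    simpa [e, show ((0 : W), (0 : C)) = 0 from rfl] using this
  have hnil : ∀ p, IsNilpotent (mk p) ↔ IsNilpotent p.1 := by
    intro p
    have hpow : ∀ (i : ℕ) (x : W × C), ∃ w : W, (mk p ^ i) (e x) = e (w, (p.1 ^ i) x.2) := by
      intro i
      induction i with
      | zero => intro x; exact ⟨x.1, by simp⟩
      | succ i ih =>
        intro x
        obtain ⟨w, hw⟩ := ih x
        refine ⟨p.2 ((p.1 ^ i) x.2), ?_⟩
        rw [pow_succ', Module.End.mul_apply, hw, hmk, pow_succ', Module.End.mul_apply]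
    constructor
    · rintro ⟨t, ht⟩
      refine ⟨t, LinearMap.ext fun c => ?_⟩
      obtain ⟨w, hw⟩ := hpow t (0, c)
      rw [ht, LinearMap.zero_apply, eq_comm, LinearEquiv.map_eq_zero_iff, Prod.mk_eq_zero] at hw
      exact hw.2
    · rintro ⟨t, ht⟩
      refine ⟨t + 1, LinearMap.ext fun v => ?_⟩
      obtain ⟨x, rfl⟩ := e.surjective v
      obtain ⟨w, hw⟩ := hpow t x
      rw [pow_succ', Module.End.mul_apply, hw, hmk]
      simp [ht, show ((0 : W), (0 : C)) = 0 from rfl]
  have hker : ∀ p, finrank K (LinearMap.ker (mk p)) = finrank K W + finrank K ↥(LinearMap.ker p.1 ⊓ LinearMap.ker p.2) := by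
    intro p
    have e1 : LinearMap.ker (mk p) = ((⊤ : Submodule K W).prod (LinearMap.ker p.1 ⊓ LinearMap.ker p.2)).map (e : (W × C) →ₗ[K] V) := by
      ext v
      obtain ⟨x, rfl⟩ := e.surjective v
      rw [LinearMap.mem_ker, hmk, LinearEquiv.map_eq_zero_iff, Prod.mk_eq_zero,
        Submodule.mem_map_equiv, e.symm_apply_apply]
      simp [Submodule.mem_prod, and_comm]
    let eP : ((⊤ : Submodule K W).prod (LinearMap.ker p.1 ⊓ LinearMap.ker p.2)) ≃ₗ[K] W × ↥(LinearMap.ker p.1 ⊓ LinearMap.ker p.2) :=
      { toFun := fun x => (x.1.1, ⟨x.1.2, x.2.2⟩)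
        invFun := fun x => ⟨(x.1, x.2.1), ⟨Submodule.mem_top, x.2.2⟩⟩
        map_add' := fun _ _ => rfl
        map_smul' := fun _ _ => rfl }
    rw [e1, LinearEquiv.finrank_map_eq, eP.finrank_eq, Module.finrank_prod]
  have hbij : ∑ N ∈ Finset.univ.filter (fun N : Module.End K V => IsNilpotent N ∧ W ≤ LinearMap.ker N),
      phi Q (finrank K (LinearMap.ker N)) =
      ∑ p ∈ Finset.univ.filter (fun p : (C →ₗ[K] C) × (C →ₗ[K] W) => IsNilpotent p.1),
        phi Q (finrank K W + finrank K ↥(LinearMap.ker p.1 ⊓ LinearMap.ker p.2)) := by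
    symm
    refine Finset.sum_bij (fun p _ => mk p) (fun p hp => ?_) ?_ ?_ (fun p _ => by rw [hker])
    · exact Finset.mem_filter.2 ⟨Finset.mem_univ _, (hnil p).2 (Finset.mem_filter.1 hp).2, hleW p⟩
    · intro p _ p' _ h
      have hc : ∀ c : C, (p.2 c, p.1 c) = (p'.2 c, p'.1 c) := fun c => e.injective (by
        have h1 := hmk p (0, c)
        rw [h, hmk p' (0, c)] at h1
        exact h1.symm)
      exact Prod.ext (LinearMap.ext fun c => congrArg Prod.snd (hc c)) (LinearMap.ext fun c => congrArg Prod.fst (hc c))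
    · intro N hN
      obtain ⟨hN1, hN2⟩ := (Finset.mem_filter.1 hN).2
      let g : C →ₗ[K] W × C := e.symm.toLinearMap ∘ₗ N ∘ₗ C.subtype
      let p : (C →ₗ[K] C) × (C →ₗ[K] W) := ((LinearMap.snd K W C) ∘ₗ g, (LinearMap.fst K W C) ∘ₗ g)
      have heq : mk p = N := LinearMap.ext fun v => by
        obtain ⟨⟨w, c⟩, rfl⟩ := e.surjective v
        rw [hmk, show N (e (w, c)) = N ((w : V) + (c : V)) from rfl, map_add, show N (w : V) = 0 from hN2 w.2, zero_add]
        exact e.apply_symm_apply _
      exact ⟨p, Finset.mem_filter.2 ⟨Finset.mem_univ _, (hnil p).1 (heq ▸ hN1)⟩, heq⟩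
  rw [hbij, Finset.sum_filter, Fintype.sum_prod_type]
  refine Finset.sum_eq_zero fun A _ => ?_
  by_cases hA : IsNilpotent A
  · simp only [if_pos hA]
    have hWpos : 0 < finrank K W := Nat.pos_of_ne_zero fun h => hW0 (Submodule.finrank_eq_zero.1 h)
    refine sum_phi_extensions hWpos (LinearMap.ker A) fun hbot => ?_
    obtain ⟨t, ht⟩ := hA
    have hinj : Function.Injective ⇑(A ^ t) := by
      rw [Module.End.coe_pow]; exact (LinearMap.ker_eq_bot.1 hbot).iterate t
    have : Nontrivial C := Submodule.nontrivial_iff_ne_bot.2 fun hCbot => hW1 (by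
      subst hCbot; exact eq_top_of_isCompl_bot hC)
    obtain ⟨c, hc⟩ := exists_ne (0 : C)
    exact hc (hinj (by rw [ht]; simp))
  · simp [if_neg hA]

open Classical in
/-- The sum of the squares. -/
theorem sum_phi_sq [Fintype (V →ₗ[K] V)] [Nontrivial V] :
    ∑ N ∈ Finset.univ.filter (fun N : Module.End K V => IsNilpotent N),
      phi Q (finrank K (LinearMap.ker N)) * phi Q (finrank K (LinearMap.ker N)) =
      wt Q (finrank K V) * phi Q (finrank K V) := by
  have := Fintype.ofFinite (Submodule K V)
  have hk : ∀ N : Module.End K V, IsNilpotent N → LinearMap.ker N ≠ ⊥ := by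
    rintro N ⟨t, ht⟩ hbot
    have hinj : Function.Injective ⇑(N ^ t) := by
      rw [Module.End.coe_pow]; exact (LinearMap.ker_eq_bot.1 hbot).iterate t
    obtain ⟨c, hc⟩ := exists_ne (0 : V)
    exact hc (hinj (by rw [ht]; simp))
  calc ∑ N ∈ Finset.univ.filter (fun N : Module.End K V => IsNilpotent N),
        phi Q (finrank K (LinearMap.ker N)) * phi Q (finrank K (LinearMap.ker N))
      = ∑ N ∈ Finset.univ.filter (fun N : Module.End K V => IsNilpotent N), ∑ W : Submodule K V,
          if W ≤ LinearMap.ker N then wt Q (finrank K W) * phi Q (finrank K (LinearMap.ker N)) else 0 := by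
        refine Finset.sum_congr rfl fun N hN => ?_
        have h := (sum_le_mu_and_wt (LinearMap.ker N)).2
        rw [if_neg (hk N (Finset.mem_filter.1 hN).2)] at h
        conv_lhs => arg 1; rw [← h]
        rw [Finset.sum_mul, Finset.sum_filter]
    _ = ∑ W : Submodule K V, wt Q (finrank K W) *
          ∑ N ∈ Finset.univ.filter (fun N : Module.End K V => IsNilpotent N ∧ W ≤ LinearMap.ker N),
            phi Q (finrank K (LinearMap.ker N)) := by
        rw [Finset.sum_comm]
        refine Finset.sum_congr rfl fun W _ => ?_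
        rw [← Finset.sum_filter, Finset.mul_sum, Finset.filter_filter]
    _ = _ := by
        rw [Finset.sum_eq_single ⊤]
        · rw [finrank_top, show (Finset.univ.filter fun N : Module.End K V => IsNilpotent N ∧ ⊤ ≤ LinearMap.ker N) = {0} by
            ext N
            simp only [Finset.mem_filter, Finset.mem_univ, true_and, Finset.mem_singleton, top_le_iff, LinearMap.ker_eq_top]
            exact ⟨fun h => h.2, fun h => ⟨h ▸ IsNilpotent.zero, h⟩⟩, Finset.sum_singleton, LinearMap.ker_zero, finrank_top]
        · intro W _ hW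
          by_cases h0 : W = ⊥
          · subst h0; rw [finrank_bot, wt_zero, zero_mul]
          · rw [sum_phi_nilpotent_of_le h0 hW, mul_zero]
        · simp

end Cfsg.Agent.Lib.GLCuspidal
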