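import Cfsg.Agent.Lib.GLCuspidal.Squares
import Cfsg.Agent.Lib.GLCuspidal.IntegralTotal

/-!
The inner products of the class functions, and the irreducible characters they give.
-/

set_option autoImplicit false
set_option linter.unusedSectionVars false

namespace Cfsg.Agent.Lib.GLCuspidal

open Module Polynomial Cfsg
open scoped ComplexConjugate

variable {F : Type*} [Field F] [Fintype F] {K : Type*} [Field K] [Algebra F K] [Fintype K]

/-- The action of the Galois group on characters. -/
noncomputable def galAct (θ : Kˣ →* ℂˣ) (σ : K ≃ₐ[F] K) : Kˣ →* ℂˣ :=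
  θ.comp (Units.map (σ : K →* K))

theorem galAct_apply (θ : Kˣ →* ℂˣ) (σ : K ≃ₐ[F] K) (a : Kˣ) :
    galAct θ σ a = θ (Units.map (σ : K →* K) a) := rfl

open Classical in
/-- Sums over the Galois group and sums over the roots. -/
theorem sum_gal_eq [Fintype (K ≃ₐ[F] K)] (a : Kˣ) (f : Kˣ → ℂ) :
    ∑ σ : K ≃ₐ[F] K, f (Units.map (σ : K →* K) a) =
      ((finrank F K / (minpoly F (a : K)).natDegree : ℕ) : ℂ) *
        ∑ b : Kˣ, if minpoly F (b : K) = minpoly F (a : K) then f b else 0 := by
  have : IsGalois F K := GaloisField.instIsGaloisOfFinite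
  set R := Finset.univ.filter fun b : Kˣ => minpoly F (b : K) = minpoly F (a : K)
  have hmap : ∀ σ : K ≃ₐ[F] K, Units.map (σ : K →* K) a ∈ R := fun σ =>
    Finset.mem_filter.2 ⟨Finset.mem_univ _, minpoly.algEquiv_eq σ (a : K)⟩
  have hfib : ∀ b ∈ R, (Finset.univ.filter fun σ : K ≃ₐ[F] K => Units.map (σ : K →* K) a = b).card =
      (Finset.univ.filter fun σ : K ≃ₐ[F] K => Units.map (σ : K →* K) a = a).card := by
    intro b hb
    have hmin := (Finset.mem_filter.1 hb).2
    rw [Normal.minpoly_eq_iff_mem_orbit] at hmin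
    obtain ⟨τ, hτ⟩ := hmin
    have hτ' : Units.map (τ : K →* K) a = b := Units.ext hτ
    refine Finset.card_equiv (Equiv.mulLeft τ⁻¹) fun σ => ?_
    simp only [Finset.mem_filter, Finset.mem_univ, true_and, Equiv.coe_mulLeft, ← hτ']
    exact ⟨fun h => Units.ext (by
        have := congrArg (fun u : Kˣ => τ.symm (u : K)) h
        simpa [AlgEquiv.mul_apply, AlgEquiv.aut_inv] using this),
      fun h => Units.ext (by
        have := congrArg (fun u : Kˣ => τ (u : K)) h
        simpa [AlgEquiv.mul_apply, AlgEquiv.aut_inv] using this)⟩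
  set c := (Finset.univ.filter fun σ : K ≃ₐ[F] K => Units.map (σ : K →* K) a = a).card
  have hR : R.card = (minpoly F (a : K)).natDegree := by
    have hirr := minpoly.irreducible (Algebra.IsIntegral.isIntegral (R := F) (a : K))
    rw [← Polynomial.card_rootSet_eq_natDegree (K := K) (PerfectField.separable_of_irreducible hirr)
      (Normal.splits inferInstance _), ← Set.toFinset_card]
    refine Finset.card_bij (fun b _ => (b : K)) (fun b hb => ?_) (fun b _ b' _ h => Units.ext h) (fun x hx => ?_)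
    · rw [Set.mem_toFinset, Polynomial.mem_rootSet]
      exact ⟨hirr.ne_zero, by rw [← (Finset.mem_filter.1 hb).2]; exact minpoly.aeval _ _⟩
    · rw [Set.mem_toFinset, Polynomial.mem_rootSet] at hx
      have h := minpoly.eq_of_irreducible_of_monic hirr hx.2 (minpoly_monic a)
      have hx0 : x ≠ 0 := by
        rintro rfl
        rw [minpoly.zero] at h
        have h2 := minpoly.aeval F (a : K)
        rw [h, aeval_X] at h2
        exact a.ne_zero h2
      exact ⟨Units.mk0 x hx0, Finset.mem_filter.2 ⟨Finset.mem_univ _, h.symm⟩, rfl⟩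
  have hcard : c * R.card = finrank F K := by
    rw [← IsGalois.card_aut_eq_finrank F K, Nat.card_eq_fintype_card, ← Finset.card_univ,
      Finset.card_eq_sum_card_fiberwise (fun σ _ => hmap σ), Finset.sum_congr rfl hfib, Finset.sum_const, smul_eq_mul, mul_comm]
  rw [← Finset.sum_fiberwise_of_maps_to (fun σ _ => hmap σ), Finset.mul_sum, ← Finset.sum_filter_add_sum_filter_not Finset.univ
    (fun b : Kˣ => minpoly F (b : K) = minpoly F (a : K)),
    Finset.sum_eq_zero (s := Finset.univ.filter fun b : Kˣ => ¬minpoly F (b : K) = minpoly F (a : K))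
      (fun b hb => by rw [if_neg (Finset.mem_filter.1 hb).2, mul_zero]), add_zero]
  refine Finset.sum_congr rfl fun b hb => ?_
  rw [if_pos (Finset.mem_filter.1 hb).2, Finset.sum_congr rfl (g := fun _ => f b) fun σ hσ => by
    rw [(Finset.mem_filter.1 hσ).2], Finset.sum_const, nsmul_eq_mul, hfib b hb, ← hR, ← hcard,
    Nat.mul_div_cancel _ (hR ▸ (minpoly.irreducible (Algebra.IsIntegral.isIntegral (R := F) (a : K))).natDegree_pos)]

theorem conj_hom {H : Type*} [Group H] [Finite H] (θ : H →* ℂˣ) (b : H) : conj (θ b : ℂ) = (θ b⁻¹ : ℂ) := by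
  rw [map_inv, Units.val_inv_eq_inv_val]
  refine (Complex.inv_eq_conj (Complex.norm_eq_one_of_pow_eq_one (n := Nat.card H) ?_ Nat.card_pos.ne')).symm
  rw [← Units.val_pow_eq_pow_val, ← map_pow, pow_card_eq_one', map_one, Units.val_one]

variable {V : Type*} [AddCommGroup V] [Module F V] [Module.Finite F V] [Nontrivial V]

theorem term_eq_tw (θ : Kˣ →* ℂˣ) (f : Module.End F V) (a : Kˣ) :
    term θ f a = (θ a : ℂ) * (tw f (minpoly F (a : K)) : ℂ) := by
  classical
  unfold term tw
  split_ifs <;> simp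

open Classical in
/-- The inner products. -/
theorem classInner_chiVal [Fintype (Module.End F V)ˣ] [Finite V] [Fintype (K ≃ₐ[F] K)] (θ θ' : Kˣ →* ℂˣ)
    (hn : finrank F V = finrank F K) :
    classInner (fun g : (Module.End F V)ˣ => chiVal θ (g : Module.End F V))
        (fun g : (Module.End F V)ˣ => chiVal θ' (g : Module.End F V)) =
      ((Finset.univ.filter fun σ : K ≃ₐ[F] K => galAct θ' σ = θ).card : ℂ) := by
  set N : Kˣ → ℂ := fun a => ∑ g : (Module.End F V)ˣ, (tw (g : Module.End F V) (minpoly F (a : K)) : ℂ) * (tw (g : Module.End F V) (minpoly F (a : K)) : ℂ)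
  have hcardK : (Fintype.card F : ℂ) ^ finrank F V - 1 = (Fintype.card Kˣ : ℂ) := by
    rw [Fintype.card_units, Module.card_eq_pow_finrank (K := F) (V := K), hn,
      Nat.cast_sub (Nat.one_le_pow _ _ Fintype.card_pos)]
    push_cast; ring
  have hN : ∀ a : Kˣ, N a * (Fintype.card Kˣ : ℂ) =
      (Nat.card (Module.End F V)ˣ : ℂ) * ((finrank F K / (minpoly F (a : K)).natDegree : ℕ) : ℂ) := by
    intro a
    have hX : minpoly F (a : K) ≠ X := fun h => by
      have h2 := minpoly.aeval F (a : K)
      rw [h, aeval_X] at h2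
      exact a.ne_zero h2
    have h := congrArg (Int.cast : ℤ → ℂ) (sum_tw_sq (V := V) (minpoly_irreducible a) (minpoly_monic a) hX
      (hn ▸ minpoly.degree_dvd (Algebra.IsIntegral.isIntegral (R := F) (a : K))))
    push_cast at h
    rw [← hcardK, ← hn]
    exact h
  have hexp : ∑ g : (Module.End F V)ˣ, chiVal θ (g : Module.End F V) * conj (chiVal θ' (g : Module.End F V)) =
      ∑ a : Kˣ, ∑ b : Kˣ, if minpoly F (b : K) = minpoly F (a : K) then (θ a : ℂ) * conj (θ' b : ℂ) * N a else 0 := by
    simp only [chiVal, term_eq_tw, map_sum, Finset.sum_mul_sum]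
    rw [Finset.sum_comm]
    refine Finset.sum_congr rfl fun a _ => ?_
    rw [Finset.sum_comm]
    refine Finset.sum_congr rfl fun b _ => ?_
    simp only [map_mul, map_intCast, Finset.mul_sum, N]
    split_ifs with h
    · rw [h]
      exact Finset.sum_congr rfl fun g _ => by ring
    · refine Finset.sum_eq_zero fun g _ => ?_
      have hco : IsCoprime (minpoly F (a : K)) (minpoly F (b : K)) :=
        (minpoly_irreducible a).coprime_iff_not_dvd.2 fun hd => h (eq_of_monic_of_associated (minpoly_monic b) (minpoly_monic a)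
          ((minpoly_irreducible a).associated_of_dvd (minpoly_irreducible b) hd).symm)
      have h0 := congrArg (Int.cast : ℤ → ℂ) (tw_mul_eq_zero hco (g : Module.End F V))
      push_cast at h0
      linear_combination (θ a : ℂ) * conj (θ' b : ℂ) * h0
  have horth : ∀ σ : K ≃ₐ[F] K, ∑ a : Kˣ, (θ a : ℂ) * conj (galAct θ' σ a : ℂ) =
      if galAct θ' σ = θ then (Fintype.card Kˣ : ℂ) else 0 := by
    intro σ
    have h := sum_hom_units ((Units.coeHom ℂ).comp (θ * (galAct θ' σ)⁻¹))
    have hiff : (Units.coeHom ℂ).comp (θ * (galAct θ' σ)⁻¹) = 1 ↔ galAct θ' σ = θ := by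
      rw [MonoidHom.ext_iff, MonoidHom.ext_iff]
      refine forall_congr' fun a => ?_
      rw [MonoidHom.comp_apply, Units.coeHom_apply, show ((1 : Kˣ →* ℂ)) a = 1 from rfl, Units.val_eq_one,
        MonoidHom.mul_apply, MonoidHom.inv_apply, mul_inv_eq_one]
      exact eq_comm
    calc ∑ a : Kˣ, (θ a : ℂ) * conj (galAct θ' σ a : ℂ)
        = ∑ a : Kˣ, (Units.coeHom ℂ).comp (θ * (galAct θ' σ)⁻¹) a := Finset.sum_congr rfl fun a _ => by
          rw [conj_hom, map_inv, MonoidHom.comp_apply, Units.coeHom_apply, MonoidHom.mul_apply, MonoidHom.inv_apply, Units.val_mul]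
      _ = _ := by
        rw [h]
        by_cases he : galAct θ' σ = θ
        · rw [if_pos he, if_pos (hiff.2 he)]
        · rw [if_neg he, if_neg (mt hiff.1 he), Nat.cast_zero]
  have hmain : (∑ g : (Module.End F V)ˣ, chiVal θ (g : Module.End F V) * conj (chiVal θ' (g : Module.End F V))) * (Fintype.card Kˣ : ℂ) =
      (Nat.card (Module.End F V)ˣ : ℂ) * ((Fintype.card Kˣ : ℂ) * ((Finset.univ.filter fun σ : K ≃ₐ[F] K => galAct θ' σ = θ).card : ℂ)) := by
    have hrhs : ∑ σ : K ≃ₐ[F] K, ∑ a : Kˣ, (θ a : ℂ) * conj (galAct θ' σ a : ℂ) =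
        (Fintype.card Kˣ : ℂ) * ((Finset.univ.filter fun σ : K ≃ₐ[F] K => galAct θ' σ = θ).card : ℂ) := by
      rw [Finset.sum_congr rfl fun σ _ => horth σ, ← Finset.sum_filter, Finset.sum_const, nsmul_eq_mul, mul_comm]
    rw [hexp, Finset.sum_mul, ← hrhs, Finset.sum_comm (s := (Finset.univ : Finset (K ≃ₐ[F] K))), Finset.mul_sum]
    refine Finset.sum_congr rfl fun a _ => ?_
    rw [← Finset.mul_sum, show ∑ σ : K ≃ₐ[F] K, conj (galAct θ' σ a : ℂ) = _ from
      sum_gal_eq a (fun b => conj (θ' b : ℂ)), Finset.sum_mul, Finset.mul_sum, Finset.mul_sum, Finset.mul_sum]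
    refine Finset.sum_congr rfl fun b _ => ?_
    split_ifs
    · linear_combination (θ a : ℂ) * conj (θ' b : ℂ) * hN a
    · simp
  have hG : (Nat.card (Module.End F V)ˣ : ℂ) ≠ 0 := Nat.cast_ne_zero.2 Nat.card_pos.ne'
  have hK : (Fintype.card Kˣ : ℂ) ≠ 0 := Nat.cast_ne_zero.2 Fintype.card_ne_zero
  rw [classInner, inv_mul_eq_iff_eq_mul₀ hG]
  refine mul_right_cancel₀ hK ?_
  linear_combination hmain

theorem phi_sign (q n : ℕ) : ((-1 : ℂ) ^ (n - 1)) * (phi q n : ℂ) = ∏ i ∈ Finset.Ico 1 n, ((q : ℂ) ^ i - 1) := by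
  rw [phi, Finset.prod_Ico_eq_prod_range]
  push_cast
  rw [show ((-1 : ℂ) ^ (n - 1)) = ∏ _i ∈ Finset.range (n - 1), (-1 : ℂ) by simp, ← Finset.prod_mul_distrib]
  exact Finset.prod_congr rfl fun i _ => by rw [add_comm 1 i]; ring

/-- A character with trivial stabilizer gives an irreducible character. -/
theorem exists_irrCharacter [Finite V] (θ : Kˣ →* ℂˣ) (hn : finrank F V = finrank F K)
    (hθ : ∀ σ : K ≃ₐ[F] K, galAct θ σ = θ → σ = 1) :
    IsIrrCharacter (Module.End F V)ˣ
      fun g => (-1 : ℂ) ^ (finrank F V - 1) * chiVal θ (g : Module.End F V) := by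
  classical
  have : Finite (Module.End F V) := Finite.of_injective _ DFunLike.coe_injective
  let _ := Fintype.ofFinite (Module.End F V)ˣ
  have : Finite (K ≃ₐ[F] K) := Finite.of_injective _ DFunLike.coe_injective
  let _ := Fintype.ofFinite (K ≃ₐ[F] K)
  set f : (Module.End F V)ˣ → ℂ := fun g => (-1 : ℂ) ^ (finrank F V - 1) * chiVal θ (g : Module.End F V)
  have hgen : IsGeneralizedCharacter (Module.End F V)ˣ f := by
    have := Chars.isGeneralizedCharacter_int_smul ((-1 : ℤ) ^ (finrank F V - 1)) (isGeneralizedCharacter_chiVal (V := V) θ hn)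
    convert this using 1
    funext g
    simp [f]
  have hnorm : classInner f f = 1 := by
    have h := classInner_chiVal (V := V) θ θ hn
    have hone : (Finset.univ.filter fun σ : K ≃ₐ[F] K => galAct θ σ = θ) = {1} := by
      ext σ
      simp only [Finset.mem_filter, Finset.mem_univ, true_and, Finset.mem_singleton]
      exact ⟨hθ σ, fun h => h ▸ MonoidHom.ext fun a => congrArg θ (Units.ext rfl)⟩
    rw [hone, Finset.card_singleton, Nat.cast_one] at h
    rw [← h, classInner, classInner]
    congr 1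
    refine Finset.sum_congr rfl fun g _ => ?_
    simp only [f, map_mul, map_pow, map_neg, map_one]
    have hs : ((-1 : ℂ) ^ (finrank F V - 1)) * ((-1 : ℂ) ^ (finrank F V - 1)) = 1 := by rw [← mul_pow]; norm_num
    linear_combination (chiVal θ (g : Module.End F V) * conj (chiVal θ (g : Module.End F V))) * hs
  rcases Chars.isGeneralizedCharacter_norm_one hgen hnorm with h | h
  · exact h
  · exfalso
    obtain ⟨k, ρ, -, hk⟩ := h
    have h1 := congrFun hk 1
    rw [Representation.char_one] at h1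
    have hq : 1 < Fintype.card F := Fintype.one_lt_card
    have hv : (-f) 1 = -((∏ i ∈ Finset.Ico 1 (finrank F V), (Fintype.card F ^ i - 1) : ℕ) : ℂ) := by
      show -((-1 : ℂ) ^ (finrank F V - 1) * chiVal θ ((1 : (Module.End F V)ˣ) : Module.End F V)) = _
      rw [Units.val_one, show (1 : Module.End F V) = 1 + 0 from (add_zero 1).symm, chiVal_one_add θ IsNilpotent.zero,
        LinearMap.ker_zero, finrank_top, phi_sign, Nat.cast_prod]
      congr 1
      refine Finset.prod_congr rfl fun i _ => ?_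
      rw [Nat.cast_sub (Nat.one_le_pow _ _ (by omega))]
      push_cast; rfl
    rw [hv] at h1
    have hpos : 0 < ∏ i ∈ Finset.Ico 1 (finrank F V), (Fintype.card F ^ i - 1) :=
      Finset.prod_pos fun i hi => Nat.sub_pos_of_lt (Nat.one_lt_pow (by have := (Finset.mem_Ico.1 hi).1; omega) hq)
    have h2 : ((finrank ℂ (Fin k → ℂ) + ∏ i ∈ Finset.Ico 1 (finrank F V), (Fintype.card F ^ i - 1) : ℕ) : ℂ) = 0 := by
      push_cast at h1 ⊢
      linear_combination h1
    rw [Nat.cast_eq_zero] at h2
    omega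

end Cfsg.Agent.Lib.GLCuspidal
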