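import Cfsg.Agent.Lib.GLCuspidal.IntegralUnipotent
import Cfsg.Agent.Lib.GLCuspidal.Nilpotent
import Cfsg.Agent.Lib.Blocks.PPart

/-!
The contribution of one minimal polynomial to the norm.
-/

set_option autoImplicit false
set_option linter.unusedSectionVars false

namespace Cfsg.Agent.Lib.GLCuspidal

open Module Polynomial Cfsg

variable {F : Type*} [Field F] [Fintype F] {V : Type*} [AddCommGroup V] [Module F V] [Module.Finite F V] [Nontrivial V]

open Classical in
/-- The integer part of the contribution of a point. -/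
noncomputable def tw (f : Module.End F V) (π : F[X]) : ℤ :=
  if IsNilpotent (aeval f π) then
    phi (Fintype.card F ^ π.natDegree) (finrank F (LinearMap.ker (aeval f π)) / π.natDegree)
  else 0

theorem tw_mul_eq_zero {π π' : F[X]} (h : IsCoprime π π') (f : Module.End F V) : tw f π * tw f π' = 0 := by
  classical
  unfold tw
  split_ifs with h1 h2
  · obtain ⟨N, hN⟩ := h1
    obtain ⟨M, hM⟩ := h2
    obtain ⟨a, b, hab⟩ := h.pow (m := N) (n := M)
    have h0 := congrArg (aeval f) hab
    rw [map_add, map_mul, map_mul, map_pow, map_pow, hN, hM, mul_zero, mul_zero, add_zero, map_one] at h0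
    exact absurd h0 zero_ne_one
  all_goals simp

open Classical in
/-- The sum of the squares of the values, for one polynomial. -/
theorem sum_tw_sq [Finite V] [Fintype (Module.End F V)ˣ] {π : F[X]} (hπ : Irreducible π) (hm : π.Monic) (hX : π ≠ X)
    (hd : π.natDegree ∣ finrank F V) :
    (∑ g : (Module.End F V)ˣ, tw (g : Module.End F V) π * tw (g : Module.End F V) π) *
      ((Fintype.card F : ℤ) ^ finrank F V - 1) =
      (Nat.card (Module.End F V)ˣ : ℤ) * (finrank F V / π.natDegree : ℕ) := by
  have := Fact.mk hπ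
  obtain ⟨p, hp⟩ := CharP.exists F
  have := Fact.mk (CharP.char_is_prime F p)
  have : Finite (Module.End F V) := Finite.of_injective _ DFunLike.coe_injective
  let _ := Fintype.ofFinite (Module.End F V)
  have hcharE : CharP (Module.End F V) p := charP_of_injective_algebraMap (algebraMap F (Module.End F V)).injective p
  set q := Fintype.card F
  set d := π.natDegree
  set n := finrank F V
  set m := n / d
  have hd0 : 0 < d := hπ.natDegree_pos
  have hdm : d * m = n := Nat.mul_div_cancel' hd
  have := finite_root (π := π) hm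
  have : Finite (AdjoinRoot π) := Module.finite_of_finite F
  let _ := Fintype.ofFinite (AdjoinRoot π)
  set Q := q ^ d with hQdef
  have hQ : Fintype.card (AdjoinRoot π) = Q := by
    rw [← Nat.card_eq_fintype_card, natCard_root hm, Nat.card_eq_fintype_card]
  have hQ1 : 1 < Q := hQ ▸ Fintype.one_lt_card
  have hpQ : p ∣ Q := by
    obtain ⟨r, -, hr⟩ := FiniteField.card F p
    rw [hQdef, show q = p ^ (r : ℕ) from hr, ← pow_mul]
    exact dvd_pow_self p (Nat.mul_ne_zero r.pos.ne' hd0.ne')
  have he : ¬ p ∣ Q - 1 := fun h => (Fact.out : p.Prime).not_dvd_one (by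
    have := Nat.dvd_sub hpQ h
    rwa [show Q - (Q - 1) = 1 by omega] at this)
  -- semisimple elements
  let Ss := Finset.univ.filter fun s : Module.End F V => aeval s π = 0
  have hs1 : ∀ s : Module.End F V, aeval s π = 0 → s ^ (Q - 1) = 1 := by
    intro s hs
    have hr : AdjoinRoot.root π ≠ 0 := by
      intro h0
      apply hX
      have h2 : π ∣ X := by rwa [← AdjoinRoot.mk_eq_zero, AdjoinRoot.mk_X]
      exact eq_of_monic_of_associated hm monic_X (hπ.associated_of_dvd irreducible_X h2)
    have := congrArg (rootHom π s hs) (FiniteField.pow_card_sub_one_eq_one _ hr)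
    rwa [hQ, map_pow, map_one, show rootHom π s hs (AdjoinRoot.root π) = aeval s X from rootHom_mk s hs X, aeval_X] at this
  -- the squares over the centralizer of `s`
  have hcent : ∀ s ∈ Ss, ∑ N ∈ Finset.univ.filter (fun N : Module.End F V => IsNilpotent N ∧ Commute N s),
      phi Q (finrank F (LinearMap.ker N) / d) * phi Q (finrank F (LinearMap.ker N) / d) = wt Q m * phi Q m := by
    intro s hs
    have hs' : aeval s π = 0 := (Finset.mem_filter.1 hs).2
    let _ := rootModule s hs'
    have := isScalarTower_root s hs'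
    have := Module.Finite.of_restrictScalars_finite F (AdjoinRoot π) V
    let _ := Fintype.ofFinite V
    have : Finite (Module.End (AdjoinRoot π) V) := Finite.of_injective _ DFunLike.coe_injective
    let _ := Fintype.ofFinite (V →ₗ[AdjoinRoot π] V)
    have hmV : finrank (AdjoinRoot π) V = m := by
      have := finrank_eq_mul hm s hs'
      rw [show m = n / d from rfl, show n = _ from this, Nat.mul_div_cancel_left _ hd0]
    have hpow : ∀ (N : Module.End (AdjoinRoot π) V) (i : ℕ) (v : V), ((N.restrictScalars F) ^ i) v = (N ^ i) v := by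
      intro N i
      induction i with
      | zero => simp
      | succ i ih => intro v; rw [pow_succ', pow_succ', Module.End.mul_apply, Module.End.mul_apply, ih]; rfl
    have hnil : ∀ N : Module.End (AdjoinRoot π) V, IsNilpotent N ↔ IsNilpotent (N.restrictScalars F) := fun N =>
      ⟨fun ⟨t, ht⟩ => ⟨t, LinearMap.ext fun v => by rw [hpow, ht]; rfl⟩,
        fun ⟨t, ht⟩ => ⟨t, LinearMap.ext fun v => by rw [← hpow, ht]; rfl⟩⟩
    rw [← hmV, ← hQ, ← sum_phi_sq (K := AdjoinRoot π) (V := V)]
    symm
    refine Finset.sum_bij (fun N _ => N.restrictScalars F) (fun N hN => ?_) (fun a _ b _ h => LinearMap.restrictScalars_injective F h)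
      (fun N hN => ?_) (fun N hN => ?_)
    · refine Finset.mem_filter.2 ⟨Finset.mem_univ _, (hnil N).1 (Finset.mem_filter.1 hN).2, LinearMap.ext fun v => ?_⟩
      show N (s v) = s (N v)
      rw [← root_smul s hs' v, ← root_smul s hs' (N v), map_smul]
    · obtain ⟨hN1, hN2⟩ := (Finset.mem_filter.1 hN).2
      let N' : Module.End (AdjoinRoot π) V :=
        { toFun := fun v => N v
          map_add' := fun a b => map_add N a b
          map_smul' := fun c v => map_smul_of_comm s hs' s hs' N hN2.eq c v }
      exact ⟨N', Finset.mem_filter.2 ⟨Finset.mem_univ _, (hnil N').2 hN1⟩, rfl⟩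
    · have hfr : finrank F (LinearMap.ker (N.restrictScalars F)) / d = finrank (AdjoinRoot π) (LinearMap.ker N) := by
        rw [show finrank F (LinearMap.ker (N.restrictScalars F)) = finrank F (LinearMap.ker N) from rfl,
          ← Module.finrank_mul_finrank F (AdjoinRoot π) (LinearMap.ker N), finrank_root hm, Nat.mul_div_cancel_left _ hd0]
      rw [hfr]
  -- the sum as a sum over commuting pairs
  have hsum : ∑ g : (Module.End F V)ˣ, tw (g : Module.End F V) π * tw (g : Module.End F V) π = (Ss.card : ℤ) * (wt Q m * phi Q m) := by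
    rw [← nsmul_eq_mul, ← Finset.sum_const, ← Finset.sum_congr rfl hcent, Finset.sum_sigma',
      ← Finset.sum_filter_of_ne (p := fun g : (Module.End F V)ˣ => IsNilpotent (aeval (g : Module.End F V) π))
        (fun g _ h => by by_contra hn; exact h (by simp [tw, hn]))]
    symm
    have hu : ∀ {N : Module.End F V}, IsNilpotent N → ∃ x : (Module.End F V)ˣ, (x : Module.End F V) = 1 + N ∧
        ∃ k : ℕ, orderOf x = p ^ k := by
      intro N hN
      obtain ⟨t, ht⟩ := hN
      refine ⟨(show IsUnit (1 + N) from IsNilpotent.isUnit_one_add ⟨t, ht⟩).unit, rfl, ?_⟩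
      obtain ⟨k, -, hk⟩ := (Nat.dvd_prime_pow (Fact.out : p.Prime)).1 (orderOf_dvd_iff_pow_eq_one.2
        (show (show IsUnit (1 + N) from IsNilpotent.isUnit_one_add ⟨t, ht⟩).unit ^ p ^ t = 1 from Units.ext (by
          rw [Units.val_pow_eq_pow_val, IsUnit.unit_spec, add_pow_char_pow_of_commute p t (Commute.one_left _), one_pow,
            pow_eq_zero_of_le (Nat.lt_pow_self (Fact.out : p.Prime).one_lt).le ht, add_zero, Units.val_one])))
      exact ⟨k, hk⟩
    have hsord : ∀ s : Module.End F V, aeval s π = 0 → ∃ y : (Module.End F V)ˣ, (y : Module.End F V) = s ∧ ¬ p ∣ orderOf y := by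
      intro s hs
      refine ⟨(IsUnit.of_pow_eq_one (hs1 s hs) (by omega)).unit, rfl, fun h => he (h.trans (orderOf_dvd_iff_pow_eq_one.2 ?_))⟩
      exact Units.ext (by rw [Units.val_pow_eq_pow_val, IsUnit.unit_spec, hs1 s hs, Units.val_one])
    choose u hu1 hu2 using @hu
    choose y hy1 hy2 using hsord
    have hpair : ∀ x : Σ _ : Module.End F V, Module.End F V,
        x ∈ Ss.sigma (fun s => Finset.univ.filter fun N : Module.End F V => IsNilpotent N ∧ Commute N s) →
        aeval x.1 π = 0 ∧ IsNilpotent x.2 ∧ Commute x.2 x.1 := fun x hx => by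
      simpa [Ss] using hx
    have hcomm : ∀ x hx, Commute (u (hpair x hx).2.1) (y x.1 (hpair x hx).1) := fun x hx => Units.ext (by
      rw [Units.val_mul, Units.val_mul, hu1, hy1]
      exact ((Commute.one_left _).add_left (hpair x hx).2.2).eq)
    refine Finset.sum_bij (fun x hx => u (hpair x hx).2.1 * y x.1 (hpair x hx).1) (fun x hx => ?_) ?_ ?_ (fun x hx => ?_)
    · refine Finset.mem_filter.2 ⟨Finset.mem_univ _, ?_⟩
      rw [Units.val_mul, hu1, hy1]
      exact (isNilpotent_aeval_mul_iff (p := p) ((Commute.one_left _).add_left (hpair x hx).2.2)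
        (by rw [add_sub_cancel_left]; exact (hpair x hx).2.1) he (hs1 _ (hpair x hx).1) hπ).2 (hpair x hx).1
    · intro x hx x' hx' h
      have h1 := Blocks.isPPart_unique (G := (Module.End F V)ˣ) (p := p)
        (g := u (hpair x hx).2.1 * y x.1 (hpair x hx).1) ⟨_, rfl, hcomm x hx, hu2 _, hy2 _ _⟩
        ⟨y x'.1 (hpair x' hx').1, h.symm, hcomm x' hx', hu2 _, hy2 _ _⟩
      have h2 : y x.1 (hpair x hx).1 = y x'.1 (hpair x' hx').1 := by
        have h' := h
        rw [← h1] at h'
        exact mul_left_cancel h'
      have e1 := congrArg Units.val h1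
      have e2 := congrArg Units.val h2
      rw [hu1, hu1, add_right_inj] at e1
      rw [hy1, hy1] at e2
      exact Sigma.ext e2 (heq_of_eq e1)
    · intro g hg
      have hg' := (Finset.mem_filter.1 hg).2
      obtain ⟨a, ha⟩ := Blocks.exists_isPPart (p := p) g
      obtain ⟨b, hab, hc, ⟨k, hk⟩, hb⟩ := ha
      have hN : IsNilpotent ((a : Module.End F V) - 1) := ⟨p ^ k, by
        rw [sub_pow_char_pow_of_commute p k (Commute.one_right _), one_pow, ← Units.val_pow_eq_pow_val,
          ← hk, pow_orderOf_eq_one, Units.val_one, sub_self]⟩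
      have hcv : Commute (a : Module.End F V) (b : Module.End F V) := hc.map (Units.coeHom _)
      have hb1 : (b : Module.End F V) ^ orderOf b = 1 := by
        rw [← Units.val_pow_eq_pow_val, pow_orderOf_eq_one, Units.val_one]
      have hbπ : aeval (b : Module.End F V) π = 0 := by
        rw [← hab, Units.val_mul] at hg'
        exact (isNilpotent_aeval_mul_iff (p := p) hcv hN hb hb1 hπ).1 hg'
      have hmem : (⟨(b : Module.End F V), (a : Module.End F V) - 1⟩ : Σ _ : Module.End F V, Module.End F V) ∈
          Ss.sigma (fun s => Finset.univ.filter fun N : Module.End F V => IsNilpotent N ∧ Commute N s) := by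
        simp only [Finset.mem_sigma, Ss, Finset.mem_filter, Finset.mem_univ, true_and]
        exact ⟨hbπ, hN, hcv.sub_left (Commute.one_left _)⟩
      refine ⟨_, hmem, ?_⟩
      rw [← hab]
      exact congrArg₂ (· * ·) (Units.ext (by rw [hu1]; exact add_sub_cancel 1 _)) (Units.ext (hy1 _ _))
    · obtain ⟨h1, h2, h3⟩ := hpair x hx
      have hc' : Commute (1 + x.2) x.1 := (Commute.one_left _).add_left h3
      have hn' : IsNilpotent (1 + x.2 - 1) := by rwa [add_sub_cancel_left]
      have hk := ker_aeval_mul (p := p) hc' hn' he (hs1 _ h1) hπ h1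
      rw [add_sub_cancel_left] at hk
      have hval : ∀ (a : IsNilpotent x.2) (b : aeval x.1 π = 0),
          ((u a * y x.1 b : (Module.End F V)ˣ) : Module.End F V) = (1 + x.2) * x.1 := fun a b => by
        rw [Units.val_mul, hu1, hy1]
      show _ = tw _ π * tw _ π
      rw [hval, tw, if_pos ((isNilpotent_aeval_mul_iff (p := p) hc' hn' he (hs1 _ h1) hπ).2 h1), hk]
  -- the number of semisimple elements
  have hS : Ss.card * frames Q m = Nat.card (Module.End F V)ˣ := by
    obtain ⟨f0, hf0⟩ := exists_aeval_eq_zero (V := V) hm hd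
    have hfinL : Finite (V ≃ₗ[F] V) := Finite.of_injective _ DFunLike.coe_injective
    rw [Nat.card_congr (LinearMap.GeneralLinearGroup.generalLinearEquiv F V).toEquiv]
    let e : (V ≃ₗ[F] V) ≃ Σ s : Ss, {x : V ≃ₗ[F] V // (x : V →ₗ[F] V) ∘ₗ f0 = (s : Module.End F V) ∘ₗ x} :=
      { toFun := fun x => ⟨⟨x.conj f0, Finset.mem_filter.2 ⟨Finset.mem_univ _,
          (aeval_algHom_apply (LinearEquiv.conjAlgEquiv F x).toAlgHom f0 π).trans (by rw [hf0, map_zero])⟩⟩,
          x, LinearMap.ext fun v => by simp [LinearEquiv.conj_apply]⟩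
        invFun := fun y => y.2.1
        left_inv := fun x => rfl
        right_inv := by
          rintro ⟨⟨s, hs⟩, x, hx⟩
          have hsx : x.conj f0 = s := LinearMap.ext fun v => by
            simpa [LinearEquiv.conj_apply] using LinearMap.congr_fun hx (x.symm v)
          subst hsx
          rfl }
    rw [Nat.card_congr e, Nat.card_sigma, Finset.sum_congr rfl fun (s : Ss) _ =>
      card_commuting_equiv hm f0 hf0 (s : Module.End F V) (Finset.mem_filter.1 s.2).2 rfl, Finset.sum_const, Finset.card_univ,
      Fintype.card_coe, smul_eq_mul]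
  have hm1 : 1 ≤ m := Nat.one_le_iff_ne_zero.2 fun h => by
    rw [h, mul_zero] at hdm
    exact Module.finrank_pos.ne' hdm.symm
  rw [hsum, ← hS, Nat.cast_mul, frames_eq Q hQ1.le m hm1, wt,
    show (q : ℤ) ^ n = (Q : ℤ) ^ m by rw [hQdef, Nat.cast_pow, ← pow_mul, hdm]]
  ring

end Cfsg.Agent.Lib.GLCuspidal
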