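import Mathlib

/-!
Alternating sums over the subspaces of a vector space over a finite field, and the values of
cuspidal characters on unipotent elements.
-/

set_option autoImplicit false
set_option linter.unusedSectionVars false

namespace Cfsg.Agent.Lib.GLCuspidal

open Module

variable {K : Type*} [Field K] [Fintype K] {V : Type*} [AddCommGroup V] [Module K V] [Fintype V]

local notation "Q" => (Fintype.card K)

/-- The value attached to a unipotent element with a `k`-dimensional fixed space. -/
def phi (q k : ℕ) : ℤ := ∏ i ∈ Finset.range (k - 1), (1 - (q : ℤ) ^ (i + 1))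

/-- The Möbius weight of a `j`-dimensional subspace. -/
def mu (q j : ℕ) : ℤ := (-1) ^ j * (q : ℤ) ^ j.choose 2

/-- The weight of a `j`-dimensional subspace. -/
def wt (q j : ℕ) : ℤ := -(j * mu q j)

theorem wt_zero (q : ℕ) : wt q 0 = 0 := by simp [wt]

theorem phi_succ (q k : ℕ) (hk : 1 ≤ k) : phi q (k + 1) = (1 - (q : ℤ) ^ k) * phi q k := by
  obtain ⟨j, rfl⟩ : ∃ j, k = j + 1 := ⟨k - 1, by omega⟩
  rw [phi, phi, Nat.add_sub_cancel, Nat.add_sub_cancel, Finset.prod_range_succ, mul_comm]

theorem natCard_eq_pow (U : Submodule K V) : Nat.card U = Q ^ finrank K U := by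
  rw [Module.natCard_eq_pow_finrank (K := K), Nat.card_eq_fintype_card]

/-- A subspace splits a sum over subspaces. -/
theorem sum_le_hyperplane [Fintype (Submodule K V)] [DecidableRel (α := Submodule K V) (· ≤ ·)]
    {U H : Submodule K V} (hHU : H ≤ U) (hH : finrank K U = finrank K H + 1) (a : ℕ → ℤ) :
    ∑ W ∈ Finset.univ.filter (· ≤ U), a (finrank K W) =
      ∑ W ∈ Finset.univ.filter (· ≤ H),
        (a (finrank K W) + (Q : ℤ) ^ (finrank K H - finrank K W) * a (finrank K W + 1)) := by
  classical
  rw [← Finset.sum_fiberwise_of_maps_to (t := Finset.univ.filter (· ≤ H)) (g := fun W => W ⊓ H)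
    (fun W _ => Finset.mem_filter.2 ⟨Finset.mem_univ _, inf_le_right⟩)]
  refine Finset.sum_congr rfl fun X hX => ?_
  have hXH : X ≤ H := (Finset.mem_filter.1 hX).2
  set S := (Finset.univ.filter (· ≤ U)).filter fun W => W ⊓ H = X with hS
  have hXS : X ∈ S := by simp [hS, hXH.trans hHU, hXH]
  have hdim : ∀ W ∈ S.erase X, finrank K W = finrank K X + 1 := by
    intro W hW
    simp only [hS, Finset.mem_erase, Finset.mem_filter, Finset.mem_univ, true_and] at hW
    obtain ⟨hne, hWU, hWX⟩ := hW
    have h1 := Submodule.finrank_sup_add_finrank_inf_eq W H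
    have h2 := Submodule.finrank_mono (sup_le hWU hHU)
    rw [hWX] at h1
    have h3 : X < W := lt_of_le_of_ne (hWX ▸ inf_le_left) (Ne.symm hne)
    have h4 := Submodule.finrank_lt_finrank_of_lt h3
    omega
  have hcount : (S.erase X).card * (Q ^ (finrank K X + 1) - Q ^ finrank K X) =
      Q ^ (finrank K H + 1) - Q ^ finrank K H := by
    let T : Finset V := Finset.univ.filter fun v => v ∈ U ∧ v ∉ H
    have hT : T.card = Q ^ (finrank K H + 1) - Q ^ finrank K H := by
      rw [← hH, ← natCard_eq_pow, ← natCard_eq_pow, Nat.card_eq_fintype_card, Nat.card_eq_fintype_card,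
        Fintype.card_subtype, Fintype.card_subtype]
      rw [show T = (Finset.univ.filter fun v => v ∈ U) \ (Finset.univ.filter fun v => v ∈ H) by
        ext v; simp [T]]
      exact Finset.card_sdiff_of_subset fun v hv => by simp at hv ⊢; exact hHU hv
    rw [← hT]
    have hmap : ∀ v ∈ T, X ⊔ (K ∙ v) ∈ S.erase X := by
      intro v hv
      simp only [T, Finset.mem_filter, Finset.mem_univ, true_and] at hv
      simp only [hS, Finset.mem_erase, Finset.mem_filter, Finset.mem_univ, true_and]
      refine ⟨fun e => hv.2 (hXH (e ▸ Submodule.mem_sup_right (Submodule.mem_span_singleton_self v))),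
        sup_le (hXH.trans hHU) ((Submodule.span_singleton_le_iff_mem _ _).2 hv.1), ?_⟩
      refine le_antisymm ?_ (le_inf le_sup_left hXH)
      rintro w ⟨hw, hwH⟩
      obtain ⟨x, hx, y, hy, rfl⟩ := Submodule.mem_sup.1 hw
      obtain ⟨c, rfl⟩ := Submodule.mem_span_singleton.1 hy
      by_cases hc : c = 0
      · simpa [hc] using hx
      · exact absurd ((H.smul_mem_iff hc).1 ((Submodule.add_mem_iff_right H (hXH hx)).1 hwH)) hv.2
    rw [Finset.card_eq_sum_card_fiberwise hmap, Finset.sum_const_nat]
    intro W hW
    have hd := hdim W hW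
    simp only [hS, Finset.mem_erase, Finset.mem_filter, Finset.mem_univ, true_and] at hW
    obtain ⟨hne, hWU, hWX⟩ := hW
    have hXW : X ≤ W := hWX ▸ inf_le_left
    rw [show (T.filter fun v => X ⊔ (K ∙ v) = W) =
        (Finset.univ.filter fun v => v ∈ W) \ (Finset.univ.filter fun v => v ∈ X) by
      ext v
      simp only [T, Finset.mem_filter, Finset.mem_univ, true_and, Finset.mem_sdiff]
      constructor
      · rintro ⟨⟨-, hvH⟩, e⟩
        exact ⟨e ▸ Submodule.mem_sup_right (Submodule.mem_span_singleton_self v), fun hvX => hvH (hXH hvX)⟩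
      · rintro ⟨hvW, hvX⟩
        refine ⟨⟨hWU hvW, fun hvH => hvX (hWX ▸ ⟨hvW, hvH⟩)⟩, ?_⟩
        refine Submodule.eq_of_le_of_finrank_le (sup_le hXW ((Submodule.span_singleton_le_iff_mem _ _).2 hvW)) ?_
        have hlt : X < X ⊔ (K ∙ v) := lt_of_le_of_ne le_sup_left fun e =>
          hvX (e.symm ▸ Submodule.mem_sup_right (Submodule.mem_span_singleton_self v))
        have := Submodule.finrank_lt_finrank_of_lt hlt
        omega]
    rw [Finset.card_sdiff_of_subset (fun v hv => by simp at hv ⊢; exact hXW hv),
      ← Fintype.card_subtype, ← Fintype.card_subtype, ← Nat.card_eq_fintype_card, ← Nat.card_eq_fintype_card,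
      natCard_eq_pow, natCard_eq_pow, hd]
  have hcard : (S.erase X).card = Q ^ (finrank K H - finrank K X) := by
    have hle := Submodule.finrank_mono hXH
    have hq : 1 < Q := Fintype.one_lt_card
    have e1 : ∀ i, Q ^ (i + 1) - Q ^ i = Q ^ i * (Q - 1) := fun i => by
      rw [pow_succ, Nat.mul_sub, mul_one]
    rw [e1, e1, ← mul_assoc] at hcount
    have h2 := Nat.eq_of_mul_eq_mul_right (by omega) hcount
    rw [← Nat.sub_add_cancel hle, pow_add] at h2
    exact Nat.eq_of_mul_eq_mul_right (Nat.pow_pos (by omega)) h2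
  rw [← Finset.add_sum_erase _ _ hXS, Finset.sum_congr rfl fun W hW => by rw [hdim W hW], Finset.sum_const,
    hcard, nsmul_eq_mul]
  push_cast
  rfl

/-- The Möbius identity and the expansion of `phi`. -/
theorem sum_le_mu_and_wt [Fintype (Submodule K V)] [DecidableRel (α := Submodule K V) (· ≤ ·)] (U : Submodule K V) :
    (∑ W ∈ Finset.univ.filter (· ≤ U), mu Q (finrank K W) = if U = ⊥ then 1 else 0) ∧
      (∑ W ∈ Finset.univ.filter (· ≤ U), wt Q (finrank K W) = if U = ⊥ then 0 else phi Q (finrank K U)) := by
  classical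
  suffices ∀ (h : ℕ) (U : Submodule K V), finrank K U = h →
      (∑ W ∈ Finset.univ.filter (· ≤ U), mu Q (finrank K W) = if U = ⊥ then 1 else 0) ∧
      (∑ W ∈ Finset.univ.filter (· ≤ U), wt Q (finrank K W) = if U = ⊥ then 0 else phi Q (finrank K U)) from
    this _ U rfl
  intro h
  induction h with
  | zero =>
    intro U hU
    rw [Submodule.finrank_eq_zero] at hU
    subst hU
    rw [show (Finset.univ.filter fun W : Submodule K V => W ≤ ⊥) = {⊥} by ext W; simp]
    simp [mu, wt]
  | succ h ih =>
    intro U hU
    have hU0 : U ≠ ⊥ := fun e => by rw [e] at hU; simp at hU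
    obtain ⟨H, hHU, hH⟩ : ∃ H ≤ U, finrank K U = finrank K H + 1 := by
      let b := Module.finBasisOfFinrankEq K U hU
      refine ⟨Submodule.span K (Set.range fun i : Fin h => (b i.castSucc : V)),
        Submodule.span_le.2 (by rintro _ ⟨i, rfl⟩; exact (b i.castSucc).2), ?_⟩
      rw [finrank_span_eq_card, Fintype.card_fin, hU]
      exact (b.linearIndependent.map' U.subtype U.ker_subtype).comp _ (Fin.castSucc_injective _)
    have hh : finrank K H = h := by omega
    obtain ⟨ihm, ihw⟩ := ih H hh
    rw [if_neg hU0, if_neg hU0, sum_le_hyperplane hHU hH, sum_le_hyperplane hHU hH, hU, hh]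
    have hmu : ∀ W ∈ Finset.univ.filter (· ≤ H), (Q : ℤ) ^ (h - finrank K W) * mu Q (finrank K W + 1) =
        -((Q : ℤ) ^ h * mu Q (finrank K W)) := by
      intro W hW
      have := Submodule.finrank_mono (Finset.mem_filter.1 hW).2
      rw [mu, mu, Nat.choose_succ_succ', Nat.choose_one_right, ← Nat.sub_add_cancel (show finrank K W ≤ h by omega),
        pow_add, pow_add, Nat.add_sub_cancel]
      ring
    constructor
    · rw [Finset.sum_add_distrib, Finset.sum_congr rfl hmu, Finset.sum_neg_distrib, ← Finset.mul_sum, ihm]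
      rcases Nat.eq_zero_or_pos h with rfl | hpos
      · rw [if_pos (Submodule.finrank_eq_zero.1 hh)]; simp
      · rw [if_neg (fun e => by rw [e] at hh; simp at hh; omega)]; simp
    · rw [Finset.sum_congr rfl (g := fun W : Submodule K V => (1 - (Q : ℤ) ^ h) * wt Q (finrank K W) + (Q : ℤ) ^ h * mu Q (finrank K W))
        fun W hW => by
          have := hmu W hW
          rw [wt, wt, Nat.cast_succ]
          linear_combination (-((finrank K W : ℤ) + 1)) * this,
        Finset.sum_add_distrib, ← Finset.mul_sum, ← Finset.mul_sum, ihm, ihw]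
      rcases Nat.eq_zero_or_pos h with rfl | hpos
      · rw [if_pos (Submodule.finrank_eq_zero.1 hh), if_pos (Submodule.finrank_eq_zero.1 hh)]; simp [phi]
      · rw [if_neg (fun e => by rw [e] at hh; simp at hh; omega), if_neg (fun e => by rw [e] at hh; simp at hh; omega),
          hh, phi_succ _ _ hpos]
        ring

/-- The cancellation behind cuspidality, for tuples. -/
theorem sum_phi_span [DecidableEq V] (hV : 0 < finrank K V) :
    ∀ r, 0 < r → ∑ b : Fin r → V,
      phi Q (finrank K V + r - finrank K (Submodule.span K (Set.range b))) = 0 := by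
  classical
  set j := finrank K V with hj
  have hcardV : Fintype.card V = Q ^ j := Module.card_eq_pow_finrank
  have hstep : ∀ r, ∀ b : Fin r → V, ∑ x : V,
      phi Q (j + (r + 1) - finrank K (Submodule.span K (Set.range (Fin.cons x b : Fin (r + 1) → V)))) =
        ((Q : ℤ) ^ j - (Q : ℤ) ^ (j + r)) * phi Q (j + r - finrank K (Submodule.span K (Set.range b))) := by
    intro r b
    set S := Submodule.span K (Set.range b)
    set s := finrank K S
    have hs1 : s ≤ r := (finrank_range_le_card b).trans (Fintype.card_fin r).le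
    have hs2 : s ≤ j := hj ▸ Submodule.finrank_le S
    have key : ∀ x : V, finrank K (Submodule.span K (Set.range (Fin.cons x b : Fin (r + 1) → V))) =
        if x ∈ S then s else s + 1 := by
      intro x
      rw [Fin.range_cons, Submodule.span_insert]
      split_ifs with hx
      · rw [sup_eq_right.2 ((Submodule.span_singleton_le_iff_mem _ _).2 hx)]
      · have h0 : x ≠ 0 := fun e => hx (e ▸ S.zero_mem)
        have h1 := Submodule.finrank_sup_add_finrank_inf_eq (K ∙ x) S
        have hdj : (K ∙ x) ⊓ S = ⊥ := ((Submodule.disjoint_span_singleton' h0).2 hx).symm.eq_bot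
        rw [finrank_span_singleton h0, hdj, finrank_bot] at h1
        show finrank K ↥((K ∙ x) ⊔ S) = finrank K S + 1
        omega
    rw [← Finset.sum_filter_add_sum_filter_not Finset.univ (fun x => x ∈ S),
      Finset.sum_congr rfl fun x hx => by rw [key, if_pos (Finset.mem_filter.1 hx).2],
      Finset.sum_congr (s₁ := Finset.univ.filter fun x => x ∉ S) rfl fun x hx => by
        rw [key, if_neg (Finset.mem_filter.1 hx).2],
      Finset.sum_const, Finset.sum_const, nsmul_eq_mul, nsmul_eq_mul, Finset.filter_not,
      Finset.card_sdiff_of_subset (Finset.filter_subset _ _), Finset.card_univ, hcardV,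
      ← Fintype.card_subtype, ← Nat.card_eq_fintype_card, natCard_eq_pow,
      show j + (r + 1) - (s + 1) = j + r - s by omega, show j + (r + 1) - s = (j + r - s) + 1 by omega]
    rw [show finrank K S = s from rfl, Nat.cast_sub (Nat.pow_le_pow_right Fintype.card_pos hs2)]
    push_cast
    have e : (Q : ℤ) ^ (j + r) = (Q : ℤ) ^ s * (Q : ℤ) ^ (j + r - s) := by
      rw [← pow_add]; congr 1; omega
    rw [phi_succ _ _ (by omega), e]
    ring
  intro r
  induction r with
  | zero => intro h; omega
  | succ r ih =>
    intro _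
    rw [← (Fin.consEquiv fun _ : Fin (r + 1) => V).sum_comp, Fintype.sum_prod_type, Finset.sum_comm]
    refine (Finset.sum_congr rfl fun b _ => hstep r b).trans ?_
    rw [← Finset.mul_sum]
    rcases Nat.eq_zero_or_pos r with rfl | hr
    · rw [add_zero, sub_self, zero_mul]
    · rw [ih hr, mul_zero]

end Cfsg.Agent.Lib.GLCuspidal
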